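import Mathlib.RingTheory.MvPolynomial.Homogeneous
import Mathlib.Algebra.MvPolynomial.NoZeroDivisors
import Mathlib.Algebra.MvPolynomial.Equiv
import Mathlib.Algebra.CharP.Algebra
import Mathlib.Tactic.LinearCombination

/-!
# Gluing solutions along a pencil of hyperplanes through a line

Coordinates: the line is `X i = 0` for `i ∉ B`; the pencil is `X b = s X a`.
-/

set_option autoImplicit false
set_option linter.all false

noncomputable section

namespace Groth.Agent.Lib.PnLines.Glue

open MvPolynomial

variable {k : Type*} [Field k] {V : Type*} [DecidableEq V]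

/-- Substitute `0` for the variables in `T`. -/
def kill (T : Finset V) : MvPolynomial V k →ₐ[k] MvPolynomial V k :=
  aeval fun i => if i ∈ T then 0 else X i

/-- Substitute `s X a` for `X b`. -/
def hsub (a b : V) (s : k) : MvPolynomial V k →ₐ[k] MvPolynomial V k :=
  aeval fun i => if i = b then C s * X a else X i

theorem dvd_sub_aeval (f : V → MvPolynomial V k) (l : MvPolynomial V k) (h : ∀ i, l ∣ X i - f i)
    (p : MvPolynomial V k) : l ∣ p - aeval f p := by
  induction p using MvPolynomial.induction_on with
  | C c => simp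
  | add p q hp hq =>
    rw [map_add, show p + q - (aeval f p + aeval f q) = (p - aeval f p) + (q - aeval f q) by ring]
    exact dvd_add hp hq
  | mul_X p i hp =>
    rw [map_mul, aeval_X, show p * X i - aeval f p * f i = (p - aeval f p) * X i + aeval f p * (X i - f i) by ring]
    exact dvd_add (hp.mul_right _) ((h i).mul_left _)

theorem dvd_sub_hsub (a b : V) (s : k) (p : MvPolynomial V k) : X b - C s * X a ∣ p - hsub a b s p :=
  dvd_sub_aeval _ _ (fun i => by
    by_cases h : i = b
    · rw [if_pos h, h]
    · rw [if_neg h, sub_self]; exact dvd_zero _) p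

theorem kill_kill (T T' : Finset V) (p : MvPolynomial V k) : kill T (kill T' p) = kill (T' ∪ T) p := by
  refine DFunLike.congr_fun (algHom_ext (f := (kill T).comp (kill T')) (g := kill (T' ∪ T)) fun i => ?_) p
  by_cases h : i ∈ T' <;> by_cases h' : i ∈ T <;> simp [kill, h, h']

theorem isHomogeneous_kill {T : Finset V} {p : MvPolynomial V k} {d : ℕ} (hp : p.IsHomogeneous d) :
    (kill T p).IsHomogeneous d := by
  have h := hp.aeval (fun i : V => if i ∈ T then (0 : MvPolynomial V k) else X i) (n := 1) (fun i => by
    split_ifs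
    · exact isHomogeneous_zero _ _ _
    · exact isHomogeneous_X _ _)
  rwa [one_mul] at h

theorem isHomogeneous_hsub {a b : V} {s : k} {p : MvPolynomial V k} {d : ℕ} (hp : p.IsHomogeneous d) :
    (hsub a b s p).IsHomogeneous d := by
  have h := hp.aeval (fun i : V => if i = b then C s * X a else X i) (n := 1) (fun i => by
    split_ifs
    · exact (isHomogeneous_X _ _).C_mul _
    · exact isHomogeneous_X _ _)
  rwa [one_mul] at h

theorem degree_le_of_dvd {l p : MvPolynomial V k} {e d : ℕ} (hl : l.IsHomogeneous e) (hl0 : l ≠ 0)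
    (hp : p.IsHomogeneous d) (h : l ∣ p) (hed : d < e) : p = 0 := by
  by_contra hp0
  obtain ⟨v, rfl⟩ := h
  have h1 := hp.totalDegree hp0
  rw [totalDegree_mul_of_isDomain hl0 (right_ne_zero_of_mul hp0), hl.totalDegree hl0] at h1
  omega

theorem exists_quot {l p : MvPolynomial V k} {e d : ℕ} (hl : l.IsHomogeneous e) (hp : p.IsHomogeneous (e + d))
    (h : l ∣ p) : ∃ v : MvPolynomial V k, v.IsHomogeneous d ∧ p = l * v := by
  obtain ⟨v, rfl⟩ := h
  refine ⟨homogeneousComponent d v, homogeneousComponent_isHomogeneous d v, ?_⟩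
  conv_lhs => rw [← homogeneousComponent_of_mem hp |>.trans (if_pos rfl)]
  conv_lhs => rw [← sum_homogeneousComponent v, Finset.mul_sum, map_sum]
  have hm : ∀ j, homogeneousComponent (e + d) (l * homogeneousComponent j v) =
      if j = d then l * homogeneousComponent d v else 0 := fun j => by
    rw [homogeneousComponent_of_mem (hl.mul (homogeneousComponent_isHomogeneous j v))]
    split_ifs with a b b
    · rw [b]
    · omega
    · omega
    · rfl
  simp only [hm, Finset.sum_ite_eq']
  split_ifs with hj
  · rfl
  · rw [homogeneousComponent_eq_zero _ _ (by simp at hj; omega), mul_zero]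

variable [Fintype V] {I J : Type*} [Fintype I] (g : J → I → MvPolynomial V k) (B : Finset V) (d : ℕ)

/-- The line has no solutions of degree `< d`. -/
def NoLow : Prop :=
  ∀ e, e < d → ∀ u : I → MvPolynomial V k, (∀ i, (u i).IsHomogeneous e) → (∀ i, kill Bᶜ (u i) = u i) →
    (∀ t, ∑ i, kill Bᶜ (g t i) * u i = 0) → u = 0

variable {g B d}

theorem line_sol {T : Finset V} (hT : T ⊆ Bᶜ) (hlow : NoLow g B d) {e : ℕ} (he : e < d) {v : I → MvPolynomial V k}
    (hv : ∀ i, (v i).IsHomogeneous e) (h : ∀ t, kill Bᶜ (∑ i, kill T (g t i) * v i) = 0) (i : I) :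
    kill Bᶜ (v i) = 0 := by
  have h0 := hlow e he (fun i => kill Bᶜ (v i)) (fun i => isHomogeneous_kill (hv i)) (fun i => by
    rw [kill_kill, Finset.union_self]) fun t => by
    have h1 := h t
    simp only [map_sum, map_mul, kill_kill, Finset.union_eq_right.2 hT] at h1
    exact h1
  exact congrFun h0 i

/-- Below the line there are no solutions. -/
theorem eq_zero_of_kill (hlow : NoLow g B d) : ∀ (m : ℕ) (T : Finset V), T ⊆ Bᶜ → (Bᶜ \ T).card ≤ m →
    ∀ e, e ≤ d → ∀ u : I → MvPolynomial V k, (∀ i, (u i).IsHomogeneous e) → (∀ i, kill T (u i) = u i) →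
      (∀ i, kill Bᶜ (u i) = 0) → (∀ t, ∑ i, kill T (g t i) * u i = 0) → u = 0 := by
  intro m
  induction m with
  | zero =>
    intro T hT hm e _ u _ hfix hπ _
    have : T = Bᶜ := Finset.Subset.antisymm hT
      (Finset.sdiff_eq_empty_iff_subset.1 (Finset.card_eq_zero.1 (Nat.le_zero.1 hm)))
    subst this
    exact funext fun i => (hfix i).symm.trans (hπ i)
  | succ m ihm =>
    intro T hT hm e
    rcases Nat.eq_zero_or_pos (Bᶜ \ T).card with h0 | hpos
    · intro he u hu hfix hπ hs
      exact ihm T hT (by omega) e he u hu hfix hπ hs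
    obtain ⟨x, hx⟩ := Finset.card_pos.1 hpos
    rw [Finset.mem_sdiff] at hx
    induction e with
    | zero =>
      intro _ u hu hfix hπ hs
      funext i
      have hc := totalDegree_eq_zero_iff_eq_C.1 (Nat.le_zero.1 (hu i).totalDegree_le)
      have h := hπ i
      rw [hc] at h
      rw [hc, Pi.zero_apply]
      simpa [kill] using h
    | succ e ihe =>
      intro he u hu hfix hπ hs
      have hT' : T ∪ {x} ⊆ Bᶜ := Finset.union_subset hT (Finset.singleton_subset_iff.2 hx.1)
      have hcard : (Bᶜ \ (T ∪ {x})).card ≤ m := by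
        rw [show Bᶜ \ (T ∪ {x}) = (Bᶜ \ T).erase x by ext y; simp; tauto,
          Finset.card_erase_of_mem (Finset.mem_sdiff.2 hx)]
        omega
      have hu0 : ∀ i, kill {x} (u i) = 0 := fun i => congrFun (ihm (T ∪ {x}) hT' hcard (e + 1) he
        (fun i => kill {x} (u i)) (fun i => isHomogeneous_kill (hu i))
        (fun i => by
          rw [kill_kill, show ({x} : Finset V) ∪ (T ∪ {x}) = T ∪ {x} by ext y; simp]
          conv_rhs => rw [← hfix i, kill_kill])
        (fun i => by
          rw [kill_kill, Finset.union_eq_right.2 (Finset.singleton_subset_iff.2 hx.1)]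
          exact hπ i)
        fun t => by
          have h := congrArg (kill ({x} : Finset V)) (hs t)
          simpa only [map_sum, map_mul, kill_kill, map_zero] using h) i
      have hdvd : ∀ i, (X x : MvPolynomial V k) ∣ u i := fun i => by
        have h := dvd_sub_aeval (fun i => if i ∈ ({x} : Finset V) then (0 : MvPolynomial V k) else X i) (X x) (fun j => by
          by_cases hj : j = x
          · simp [hj]
          · simp [hj]) (u i)
        rwa [show aeval _ (u i) = kill {x} (u i) from rfl, hu0 i, sub_zero] at h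
      choose v hv huv using fun i => exists_quot (isHomogeneous_X k x) (by rw [add_comm]; exact hu i) (hdvd i)
      have hX : (X x : MvPolynomial V k) ≠ 0 := X_ne_zero x
      have hs' : ∀ t, ∑ i, kill T (g t i) * v i = 0 := fun t => by
        refine mul_left_cancel₀ hX ?_
        rw [mul_zero, Finset.mul_sum, ← hs t]
        exact Finset.sum_congr rfl fun i _ => by rw [huv i]; ring
      have hfix' : ∀ i, kill T (v i) = v i := fun i => by
        refine mul_left_cancel₀ hX ?_
        have h := hfix i
        rw [huv i, map_mul, show kill T (X x : MvPolynomial V k) = X x by simp [kill, hx.2]] at h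
        exact h
      have hπ' := line_sol hT hlow (e := e) (by omega) hv fun t => by rw [hs' t, map_zero]
      have hv0 := ihe (by omega) v hv hfix' hπ' hs'
      funext i
      rw [huv i, congrFun hv0 i]
      simp

variable {a b : V} (hab : a ≠ b) (ha : a ∉ B) (hb : b ∉ B)

include hab ha hb in
/-- Solutions modulo `X a ^ j` on a hyperplane that vanish on the line are divisible by `X a ^ j`. -/
theorem dvd_of_line (hlow : NoLow g B d) (s : k) : ∀ (j e : ℕ), e ≤ d → ∀ u : I → MvPolynomial V k,
    (∀ i, (u i).IsHomogeneous e) → (∀ i, hsub a b s (u i) = u i) → (∀ i, kill Bᶜ (u i) = 0) →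
    (∀ t, (X a : MvPolynomial V k) ^ j ∣ ∑ i, hsub a b s (g t i) * u i) → ∀ i, (X a : MvPolynomial V k) ^ j ∣ u i := by
  intro j
  induction j with
  | zero => intros; simp
  | succ j ihj =>
    intro e he u hu hfix hπ hs
    rcases Nat.eq_zero_or_pos e with rfl | hepos
    · intro i
      have hc := totalDegree_eq_zero_iff_eq_C.1 (Nat.le_zero.1 (hu i).totalDegree_le)
      have h := hπ i
      rw [hc] at h
      rw [hc, show coeff 0 (u i) = 0 by simpa [kill] using h, map_zero]
      exact dvd_zero _
    obtain ⟨e, rfl⟩ : ∃ e', e = e' + 1 := ⟨e - 1, by omega⟩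
    have hab' : ({a, b} : Finset V) ⊆ Bᶜ := by
      intro y hy
      simp at hy ⊢
      rcases hy with rfl | rfl <;> assumption
    have hk : ∀ p : MvPolynomial V k, kill ({a, b} : Finset V) (hsub a b s p) = kill ({a, b} : Finset V) p := fun p => by
      refine DFunLike.congr_fun (algHom_ext (f := (kill ({a, b} : Finset V)).comp (hsub a b s))
        (g := kill ({a, b} : Finset V)) fun i => ?_) p
      by_cases h : i = b
      · subst h; simp [hsub, kill]
      · simp [hsub, h]
    have hu0 := eq_zero_of_kill hlow _ ({a, b} : Finset V) hab' le_rfl (e + 1) he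
      (fun i => kill ({a, b} : Finset V) (u i)) (fun i => isHomogeneous_kill (hu i))
      (fun i => by rw [kill_kill, Finset.union_self])
      (fun i => by rw [kill_kill, Finset.union_eq_right.2 hab', hπ i])
      fun t => by
        obtain ⟨q, hq⟩ := (dvd_pow_self (X a : MvPolynomial V k) (Nat.succ_ne_zero j)).trans (hs t)
        have h := congrArg (kill ({a, b} : Finset V)) hq
        simp only [map_sum, map_mul, hk] at h
        rw [h, show kill ({a, b} : Finset V) (X a : MvPolynomial V k) = 0 by simp [kill], zero_mul]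
    have hdvd : ∀ i, (X a : MvPolynomial V k) ∣ u i := fun i => by
      let f : V → MvPolynomial V k := fun i => if i = a then 0 else X i
      have hfa : aeval f (u i) = kill ({a, b} : Finset V) (u i) := by
        conv_lhs => rw [← hfix i]
        conv_rhs => rw [← hfix i]
        refine DFunLike.congr_fun (algHom_ext (f := (aeval f).comp (hsub a b s))
          (g := (kill ({a, b} : Finset V)).comp (hsub a b s)) fun j => ?_) (u i)
        by_cases h : j = b
        · subst h; simp [hsub, kill, f]
        · by_cases h' : j = a <;> simp [hsub, kill, f, h, h', hab]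
      have h := dvd_sub_aeval f (X a) (fun j => by
        by_cases hj : j = a
        · simp [f, hj]
        · simp [f, hj]) (u i)
      rwa [hfa, congrFun hu0 i, Pi.zero_apply, sub_zero] at h
    choose v hv huv using fun i => exists_quot (isHomogeneous_X k a) (by rw [add_comm]; exact hu i) (hdvd i)
    have hX : (X a : MvPolynomial V k) ≠ 0 := X_ne_zero a
    have hfix' : ∀ i, hsub a b s (v i) = v i := fun i => by
      refine mul_left_cancel₀ hX ?_
      have h := hfix i
      rw [huv i, map_mul, show hsub a b s (X a : MvPolynomial V k) = X a by simp [hsub, hab]] at h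
      exact h
    have hs' : ∀ t, (X a : MvPolynomial V k) ^ j ∣ ∑ i, hsub a b s (g t i) * v i := fun t => by
      refine (mul_dvd_mul_iff_left hX).1 ?_
      rw [← pow_succ', Finset.mul_sum]
      refine (hs t).trans (dvd_of_eq (Finset.sum_congr rfl fun i _ => ?_))
      rw [huv i]; ring
    intro i
    rw [pow_succ', huv i]
    refine mul_dvd_mul_left _ ?_
    rcases Nat.eq_zero_or_pos j with rfl | hj
    · simp
    refine ihj e (by omega) v hv hfix' (fun i => line_sol (Finset.empty_subset _) hlow (by omega) hv (fun t => ?_) i)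
      hs' i
    obtain ⟨q, hq⟩ := (dvd_pow_self (X a : MvPolynomial V k) hj.ne').trans (hs' t)
    have hk2 : ∀ p : MvPolynomial V k, kill Bᶜ (hsub a b s p) = kill Bᶜ p := fun p => by
      refine DFunLike.congr_fun (algHom_ext (f := (kill Bᶜ).comp (hsub a b s)) (g := kill Bᶜ) fun i => ?_) p
      by_cases h : i = b
      · subst h; simp [hsub, kill, ha, hb]
      · simp [hsub, h]
    have h := congrArg (kill Bᶜ) hq
    simp only [map_sum, map_mul, hk2] at h
    simp only [map_sum, map_mul, kill_kill, Finset.empty_union]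
    rw [h, show kill Bᶜ (X a : MvPolynomial V k) = 0 by simp [kill, ha], zero_mul]

variable [CharZero k]

include hab ha hb in
/-- Solutions on the hyperplanes of the pencil glue to a global one. -/
theorem exists_glue (hlow : NoLow g B d) {e : ℕ} (hg : ∀ t i, (g t i).IsHomogeneous e)
    (hone : ∀ u u' : I → MvPolynomial V k, (∀ i, (u i).IsHomogeneous d) → (∀ i, (u' i).IsHomogeneous d) →
      (∀ i, kill Bᶜ (u i) = u i) → (∀ i, kill Bᶜ (u' i) = u' i) →
      (∀ t, ∑ i, kill Bᶜ (g t i) * u i = 0) → (∀ t, ∑ i, kill Bᶜ (g t i) * u' i = 0) → u ≠ 0 →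
      ∃ c : k, u' = c • u)
    (hH : ∀ s : k, ∃ r : I → MvPolynomial V k, (∀ i, (r i).IsHomogeneous d) ∧ r ≠ 0 ∧
      (∀ i, hsub a b s (r i) = r i) ∧ ∀ t, ∑ i, hsub a b s (g t i) * r i = 0) :
    ∃ r : I → MvPolynomial V k, r ≠ 0 ∧ (∀ i, (r i).IsHomogeneous d) ∧ ∀ t, ∑ i, g t i * r i = 0 := by
  classical
  have hk2 : ∀ (s : k) (p : MvPolynomial V k), kill Bᶜ (hsub a b s p) = kill Bᶜ p := fun s p => by
    refine DFunLike.congr_fun (algHom_ext (f := (kill Bᶜ).comp (hsub a b s)) (g := kill Bᶜ) fun i => ?_) p
    by_cases h : i = b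
    · subst h; simp [hsub, kill, ha, hb]
    · simp [hsub, h]
  choose r hr hr0 hrfix hrs using hH
  have hπ : ∀ s, (fun i => kill Bᶜ (r s i)) ≠ 0 := fun s h => hr0 s (funext fun i =>
    degree_le_of_dvd (isHomogeneous_X_pow a (d + 1)) (pow_ne_zero _ (X_ne_zero a)) (hr s i)
      (dvd_of_line hab ha hb hlow s (d + 1) d le_rfl (r s) (hr s) (hrfix s) (fun i => congrFun h i)
        (fun t => (hrs s t).symm ▸ dvd_zero _) i) (Nat.lt_succ_self d))
  have hπs : ∀ s t, ∑ i, kill Bᶜ (g t i) * kill Bᶜ (r s i) = 0 := fun s t => by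
    have h := congrArg (kill Bᶜ) (hrs s t)
    simpa only [map_sum, map_mul, hk2, map_zero] using h
  let r₀ : I → MvPolynomial V k := fun i => kill Bᶜ (r 0 i)
  choose c hc using fun s => hone _ r₀ (fun i => isHomogeneous_kill (hr s i)) (fun i => isHomogeneous_kill (hr 0 i))
    (fun i => by rw [kill_kill, Finset.union_self]) (fun i => by simp only [r₀, kill_kill, Finset.union_self])
    (hπs s) (hπs 0) (hπ s)
  let L : ℕ → MvPolynomial V k := fun j => ∏ m ∈ Finset.range j, (X b - C (m : k) * X a)
  have hLh : ∀ j, (L j).IsHomogeneous j := fun j => by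
    have h := IsHomogeneous.prod (Finset.range j) (fun m => X b - C (m : k) * X a) (fun _ => 1)
      fun m _ => (isHomogeneous_X _ _).sub ((isHomogeneous_X _ _).C_mul _)
    rw [Finset.sum_const, Finset.card_range, smul_eq_mul, mul_one] at h
    exact h
  have hLψ : ∀ j : ℕ, hsub a b (j : k) (L j) = C (∏ m ∈ Finset.range j, ((j : k) - m)) * X a ^ j := fun j => by
    simp only [L, map_prod, map_sub, map_mul]
    simp only [hsub, aeval_X, aeval_C, MvPolynomial.algebraMap_eq, if_true, if_neg hab]
    refine Eq.trans (Finset.prod_congr rfl (g := fun m : ℕ => C ((j : k) - (m : k)) * X a) fun m _ => by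
      rw [map_sub, sub_mul]) ?_
    rw [Finset.prod_mul_distrib, Finset.prod_const, Finset.card_range]
    simp only [map_sub]
  have hcne : ∀ j : ℕ, ∏ m ∈ Finset.range j, ((j : k) - m) ≠ 0 := fun j => Finset.prod_ne_zero_iff.2 fun m hm => by
    rw [sub_ne_zero, Ne, Nat.cast_inj]
    have := Finset.mem_range.1 hm
    omega
  have key : ∀ j, ∃ R : I → MvPolynomial V k, (∀ i, (R i).IsHomogeneous d) ∧ (∀ i, kill Bᶜ (R i) = r₀ i) ∧
      ∀ t, L j ∣ ∑ i, g t i * R i := by
    intro j
    induction j with
    | zero => exact ⟨r₀, fun i => isHomogeneous_kill (hr 0 i), fun i => by simp only [r₀, kill_kill, Finset.union_self],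
        fun t => by simp [L]⟩
    | succ j ih =>
      obtain ⟨R, hR, hRπ, hRd⟩ := ih
      let u : I → MvPolynomial V k := fun i => hsub a b (j : k) (R i) - C (c j) * r j i
      have hu : ∀ i, (u i).IsHomogeneous d := fun i => (isHomogeneous_hsub (hR i)).sub ((hr j i).C_mul _)
      have hufix : ∀ i, hsub a b (j : k) (u i) = u i := fun i => by
        have hidem : ∀ p : MvPolynomial V k, hsub a b (j : k) (hsub a b (j : k) p) = hsub a b (j : k) p := fun p => by
          refine DFunLike.congr_fun (algHom_ext (f := (hsub a b (j : k)).comp (hsub a b (j : k)))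
            (g := hsub a b (j : k)) fun i => ?_) p
          by_cases h : i = b <;> simp [hsub, h, hab]
        simp only [u, map_sub, map_mul, hidem, hrfix]
        simp [hsub]
      have huπ : ∀ i, kill Bᶜ (u i) = 0 := fun i => by
        have h := congrFun (hc j) i
        simp only [u, map_sub, map_mul, hk2, hRπ i]
        rw [h, Pi.smul_apply, smul_eq_C_mul]
        simp [kill]
      have hus : ∀ t, (X a : MvPolynomial V k) ^ j ∣ ∑ i, hsub a b (j : k) (g t i) * u i := fun t => by
        have he : ∑ i, hsub a b (j : k) (g t i) * u i = hsub a b (j : k) (∑ i, g t i * R i) := by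
          simp only [u, mul_sub, Finset.sum_sub_distrib, map_sum, map_mul, mul_left_comm _ (C (c j)), ← Finset.mul_sum,
            hrs, mul_zero, sub_zero]
        rw [he]
        obtain ⟨q, hq⟩ := hRd t
        rw [hq, map_mul, hLψ]
        exact (dvd_mul_left _ _).mul_right _
      have hud := dvd_of_line hab ha hb hlow _ j d le_rfl u hu hufix huπ hus
      obtain ⟨w, hw, hwu⟩ : ∃ w : I → MvPolynomial V k, (∀ i, (L j * w i).IsHomogeneous d ∧ kill Bᶜ (L j * w i) = 0) ∧
          ∀ i, hsub a b (j : k) (L j * w i) = u i := by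
        rcases le_or_gt j d with hjd | hjd
        · obtain ⟨d', rfl⟩ := Nat.exists_eq_add_of_le hjd
          choose v hv huv using fun i => exists_quot (isHomogeneous_X_pow a j) (hu i) (hud i)
          have hvfix : ∀ i, hsub a b (j : k) (v i) = v i := fun i => by
            refine mul_left_cancel₀ (pow_ne_zero j (X_ne_zero (R := k) a)) ?_
            have h := hufix i
            rw [huv i, map_mul, map_pow, show hsub a b (j : k) (X a : MvPolynomial V k) = X a by simp [hsub, hab]] at h
            exact h
          refine ⟨fun i => C (∏ m ∈ Finset.range j, ((j : k) - m))⁻¹ * v i, fun i => ⟨(hLh j).mul ((hv i).C_mul _), ?_⟩,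
            fun i => ?_⟩
          · rcases Nat.eq_zero_or_pos j with rfl | hj
            · have h := huπ i
              rw [huv i] at h
              simp [L] at h ⊢
              exact h
            · rw [map_mul, show kill Bᶜ (L j) = 0 from ?_, zero_mul]
              rw [map_prod]
              exact Finset.prod_eq_zero (Finset.mem_range.2 hj) (by simp [kill, ha, hb])
          · rw [map_mul, map_mul, hLψ, hvfix, show hsub a b (j : k) (C (∏ m ∈ Finset.range j, ((j : k) - m))⁻¹) =
              C (∏ m ∈ Finset.range j, ((j : k) - m))⁻¹ by simp [hsub], huv i]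
            have h1 : (C (∏ m ∈ Finset.range j, ((j : k) - m)) : MvPolynomial V k) *
                C (∏ m ∈ Finset.range j, ((j : k) - m))⁻¹ = 1 := by rw [← C_mul, mul_inv_cancel₀ (hcne j), C_1]
            linear_combination (X a ^ j * v i) * h1
        · refine ⟨0, fun i => ⟨by simpa using isHomogeneous_zero V k d, by simp⟩, fun i => ?_⟩
          rw [degree_le_of_dvd (isHomogeneous_X_pow a j) (pow_ne_zero _ (X_ne_zero a)) (hu i) (hud i) hjd]
          simp
      refine ⟨fun i => R i - L j * w i, fun i => (hR i).sub (hw i).1, fun i => by simp [hRπ i, (hw i).2], fun t => ?_⟩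
      obtain ⟨q, hq⟩ : L j ∣ ∑ i, g t i * (R i - L j * w i) := by
        simp only [mul_sub, Finset.sum_sub_distrib]
        exact dvd_sub (hRd t) (Finset.dvd_sum fun i _ => Dvd.dvd.mul_left (dvd_mul_right _ _) _)
      have h0 : hsub a b (j : k) (∑ i, g t i * (R i - L j * w i)) = 0 := by
        have e1 : ∀ i, hsub a b (j : k) (R i - L j * w i) = C (c j) * r j i := fun i => by
          rw [map_sub, hwu i]; simp [u]
        simp only [map_sum, map_mul, e1, mul_left_comm _ (C (c j)), ← Finset.mul_sum, hrs, mul_zero]
      rw [hq, map_mul, hLψ] at h0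
      have hq0 : hsub a b (j : k) q = 0 := (mul_eq_zero.1 h0).resolve_left
        (mul_ne_zero (C_ne_zero.2 (hcne j)) (pow_ne_zero _ (X_ne_zero a)))
      have hd := dvd_sub_hsub a b (j : k) q
      rw [hq0, sub_zero] at hd
      rw [hq, show L (j + 1) = L j * (X b - C (j : k) * X a) from Finset.prod_range_succ _ _]
      exact mul_dvd_mul_left _ hd
  obtain ⟨R, hR, hRπ, hRd⟩ := key (e + d + 1)
  refine ⟨R, fun h => hπ 0 (funext fun i => ?_), hR, fun t => ?_⟩
  · have := hRπ i
    rw [h] at this
    simpa [r₀] using this.symm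
  · refine degree_le_of_dvd (hLh _) ?_ (IsHomogeneous.sum _ _ _ fun i _ => (hg t i).mul (hR i)) (hRd t) (Nat.lt_succ_self _)
    refine Finset.prod_ne_zero_iff.2 fun m _ h => ?_
    have := congrArg (eval fun i => if i = b then (1 : k) else 0) h
    simp [hab] at this

end Groth.Agent.Lib.PnLines.Glue
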