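import Groth.Agent.Lib.PnLines.Restrict
import Groth.Agent.Lib.PnLines.Glue

/-!
# Coordinates adapted to a line, and solutions on hyperplanes
-/

set_option autoImplicit false
set_option linter.all false
set_option maxHeartbeats 1000000
set_option backward.isDefEq.respectTransparency.types false

universe u

open CategoryTheory CategoryTheory.Limits AlgebraicGeometry MvPolynomial

noncomputable section

namespace Groth.Agent.Lib.PnLines.Coord

open Groth.Agent.Lib Groth.Agent.Lib.ProjCoh.Coherent Groth.Agent.Lib.ProjCoh.Sections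
  Groth.Agent.Lib.PnLines.Dict Groth.Agent.Lib.PnLines.Line Groth.Agent.Lib.PnLines.Restrict
  Groth.Agent.Lib.EssDimM0.LinePts Groth.Agent.Lib.TensorMod.Basic Groth.Agent.Lib.TensorMod.Pullback

variable {k : Type u} [Field k] {n m : ℕ}

theorem exists_reindex {ι : Type*} (b₀ : Module.Basis ι k (Fin (n + 2) → k)) {i₀ i₁ : ι} (hne : i₀ ≠ i₁) :
    ∃ b : Module.Basis (Fin (n + 2)) k (Fin (n + 2) → k), b 0 = b₀ i₀ ∧ b 1 = b₀ i₁ := by
  classical
  haveI : Finite ι := Module.Finite.finite_basis b₀
  haveI : Fintype ι := Fintype.ofFinite _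
  have hcard := Module.finrank_eq_card_basis b₀
  rw [Module.finrank_fin_fun] at hcard
  let e₀ := Fintype.equivFinOfCardEq hcard.symm
  let e₁ := e₀.trans (Equiv.swap (e₀ i₀) 0)
  let e₂ := e₁.trans (Equiv.swap (e₁ i₁) 1)
  have h0 : e₁ i₀ = 0 := Equiv.swap_apply_left _ _
  have h1 : e₁ i₁ ≠ 0 := fun hh => hne.symm (e₁.injective (hh.trans h0.symm))
  refine ⟨b₀.reindex e₂, ?_, ?_⟩ <;> rw [Module.Basis.reindex_apply] <;> congr 1 <;> rw [Equiv.symm_apply_eq]
  · simp only [e₂, Equiv.trans_apply, h0]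
    exact (Equiv.swap_apply_of_ne_of_ne h1.symm (by simp)).symm
  · exact (Equiv.swap_apply_left _ _).symm

theorem exists_basis {p q : Fin (n + 2) → k} (h : LinearIndependent k ![p, q]) :
    ∃ A A' : Fin (n + 2) → Fin (n + 2) → k, (∀ i, A i 0 = p i) ∧ (∀ i, A i 1 = q i) ∧
      (∀ i l, ∑ j, A i j * A' j l = if i = l then 1 else 0) ∧
      (∀ i l, ∑ j, A' i j * A j l = if i = l then 1 else 0) := by
  classical
  have hs := h.linearIndepOn_id
  obtain ⟨b, hb0, hb1⟩ := exists_reindex (Module.Basis.extend hs)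
    (i₀ := ⟨p, hs.subset_extend _ ⟨0, rfl⟩⟩) (i₁ := ⟨q, hs.subset_extend _ ⟨1, rfl⟩⟩)
    (fun e => by simpa using h.injective (a₁ := 0) (a₂ := 1) (congrArg Subtype.val e))
  rw [Module.Basis.extend_apply_self] at hb0 hb1
  let c := Pi.basisFun k (Fin (n + 2))
  refine ⟨fun i j => b j i, fun i j => b.repr (c j) i, fun i => congrFun hb0 i, fun i => congrFun hb1 i,
    fun i l => ?_, fun i l => ?_⟩
  · have h2 := congrFun (b.sum_repr (c l)) i
    simp only [Finset.sum_apply, Pi.smul_apply, smul_eq_mul, c, Pi.basisFun_apply, Pi.single_apply] at h2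
    rw [← h2]
    exact Finset.sum_congr rfl fun j _ => by simp [c, mul_comm]
  · have h2 : b.repr (∑ j, b l j • c j) i = if i = l then 1 else 0 := by
      rw [show ∑ j, b l j • c j = b l from c.sum_repr (b l)]
      simp [Finsupp.single_apply, eq_comm]
    simpa [map_sum, mul_comm] using h2

/-- Restriction of forms to `k[λ]` along the first two coordinates. -/
def bin (n : ℕ) : MvPolynomial (Fin (n + 2)) k →ₐ[k] MvPolynomial (Fin 2) k :=
  aeval fun i => if i = 0 then X 0 else if i = 1 then X 1 else 0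

theorem bin_mem {d : ℕ} {u : MvPolynomial (Fin (n + 2)) k} (hu : u.IsHomogeneous d) :
    bin n u ∈ CohB1.polyGrading 1 k d := by
  have h := hu.aeval (fun i : Fin (n + 2) => if i = 0 then X 0 else if i = 1 then X 1 else (0 : MvPolynomial (Fin 2) k))
    (n := 1) (fun i => by
      split_ifs
      · exact isHomogeneous_X _ _
      · exact isHomogeneous_X _ _
      · exact isHomogeneous_zero _ _ _)
  rwa [one_mul] at h

theorem bin_kill (u : MvPolynomial (Fin (n + 2)) k) :
    bin n (Glue.kill ({0, 1} : Finset (Fin (n + 2)))ᶜ u) = bin n u := by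
  have key : (bin n).comp (Glue.kill (k := k) ({0, 1} : Finset (Fin (n + 2)))ᶜ) = bin n := algHom_ext fun i => by
    by_cases h : i = 0 ∨ i = 1
    · rcases h with rfl | rfl <;> simp [Glue.kill]
    · push Not at h
      simp [Glue.kill, bin, h.1, h.2]
  exact DFunLike.congr_fun key u

/-- A form on the line is determined by its values there. -/
theorem eq_zero_of_bin {d : ℕ} {u : MvPolynomial (Fin (n + 2)) k} (hu : u.IsHomogeneous d)
    (hfix : Glue.kill ({0, 1} : Finset (Fin (n + 2)))ᶜ u = u) (h : dehom (bin n u) = 0) : u = 0 := by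
  have h1 := eq_zero_of_dehom (bin_mem hu) h
  have key : rename ![(0 : Fin (n + 2)), 1] (bin n u) = Glue.kill ({0, 1} : Finset (Fin (n + 2)))ᶜ u := by
    refine DFunLike.congr_fun (algHom_ext (f := (rename ![(0 : Fin (n + 2)), 1]).comp (bin n))
      (g := Glue.kill ({0, 1} : Finset (Fin (n + 2)))ᶜ) fun i => ?_) u
    by_cases h : i = 0 ∨ i = 1
    · rcases h with rfl | rfl <;> simp [Glue.kill, bin]
    · push Not at h
      simp [Glue.kill, bin, h.1, h.2]
  rw [← hfix, ← key, h1, map_zero]

theorem dehom_bin_lin {p q : Fin (n + 2) → k} {A : Fin (n + 2) → Fin (n + 2) → k} (hA0 : ∀ i, A i 0 = p i)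
    (hA1 : ∀ i, A i 1 = q i) (f : MvPolynomial (Fin (n + 2)) k) :
    dehom (bin n (lin k A f)) = Descent.φat p q f := by
  refine DFunLike.congr_fun (algHom_ext (f := (dehom.comp (bin n)).comp (aeval (R := k) (forms k A)))
    (g := Descent.φat p q) fun i => ?_) f
  simp only [AlgHom.comp_apply, aeval_X, forms, map_sum, map_mul, bin, dehom, MvPolynomial.aeval_C, Descent.φat]
  rw [Fintype.sum_eq_add (0 : Fin (n + 2)) 1 (by simp) (fun j hj => by simp [hj.1, hj.2])]
  simp [hA0, hA1, Polynomial.algebraMap_eq]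

/-! ### The hyperplanes of the pencil -/

variable (A : Fin (n + 2) → Fin (n + 2) → k) (a b : Fin (n + 2)) (s : k)

/-- The matrix of the hyperplane `X b = s X a` in the coordinates `A`. -/
def hypMat : Fin (n + 2) → Fin (n + 1) → k :=
  fun i j => A i (b.succAbove j) + if b.succAbove j = a then s * A i b else 0

theorem rename_lin (hab : a ≠ b) (f : MvPolynomial (Fin (n + 2)) k) :
    rename b.succAbove (lin k (hypMat A a b s) f) = Glue.hsub a b s (lin k A f) := by
  refine DFunLike.congr_fun (algHom_ext (f := (rename b.succAbove).comp (aeval (R := k) (forms k (hypMat A a b s))))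
    (g := (Glue.hsub a b s).comp (aeval (R := k) (forms k A))) fun i => ?_) f
  obtain ⟨j₀, hj₀⟩ := Fin.exists_succAbove_eq hab
  simp only [AlgHom.comp_apply, aeval_X, forms, map_sum, map_mul, rename_X, rename_C, Glue.hsub, aeval_C,
    MvPolynomial.algebraMap_eq, hypMat, map_add, add_mul, Finset.sum_add_distrib]
  rw [Fin.sum_univ_succAbove (fun j => C (A i j) * (if j = b then C s * X a else X j)) b, if_pos rfl]
  refine Eq.trans ?_ (add_comm _ _)
  congr 1
  · exact Finset.sum_congr rfl fun j _ => by rw [if_neg (Fin.succAbove_ne b j)]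
  · rw [Finset.sum_eq_single j₀ (fun j _ hj => by
      rw [if_neg fun h => hj (Fin.succAbove_right_injective (h.trans hj₀.symm)), map_zero, zero_mul])
      (fun h => absurd (Finset.mem_univ _) h), if_pos hj₀, hj₀, map_mul]
    ring

theorem hypMat_surj (hab : a ≠ b) (A' : Fin (n + 2) → Fin (n + 2) → k)
    (hA' : ∀ i l, ∑ j, A' i j * A j l = if i = l then 1 else 0) :
    Function.Surjective (lin k (hypMat A a b s)) := by
  refine lin_surjective_of_mem k _ (fun j i => A' (b.succAbove j) i) fun j l => ?_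
  have h1 := hA' (b.succAbove j) (b.succAbove l)
  have h2 := hA' (b.succAbove j) b
  rw [if_neg (Fin.succAbove_ne b j)] at h2
  simp only [Fin.succAbove_right_injective.eq_iff] at h1
  simp only [hypMat, mul_add, Finset.sum_add_distrib, h1]
  by_cases h : b.succAbove l = a
  · simp only [h, if_true, mul_left_comm _ s, ← Finset.mul_sum, h2, mul_zero, add_zero]
  · simp [h]

variable {W : (CohB1.ProjSpace n k).Modules} (P : Pres W) (M : Fin (n + 1) → Fin (m + 1) → k)
  (hM : Function.Surjective (lin k M))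

/-- From a nonzero homomorphism on a linear subspace to a nonzero solution. -/
theorem exists_sol_lin (hm : 1 ≤ m) {d : ℕ} {j : ℤ} (hj : P.a₀ + (d : ℤ) = j)
    (h : (Scheme.Modules.pullback (linMap k M hM)).obj W ⟶ tw m k j) (hh : h ≠ 0) :
    ∃ r : Fin P.b → MvPolynomial (Fin (m + 1)) k, r ≠ 0 ∧ (∀ i, (r i).IsHomogeneous d) ∧
      ∀ t, ∑ i, lin k M (P.g t i : MvPolynomial (Fin (n + 1)) k) * r i = 0 := by
  let cm : ∀ a : ℤ, (pb (linMap k M hM)).obj (tw n k a) ⟶ tw m k a := fun a =>
    ProperFin.TwistBC.comparison (lin k M) (irrel_of_surjective k _ hM) a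
  have hcm : ∀ a, IsIso (cm a) := fun a => isIso_comparison _ _ hm a
  haveI := hcm P.a₀
  choose r hr using fun i => exists_mulG hm hj (inv (cm P.a₀) ≫ (pb (linMap k M hM)).map (P.π i) ≫ h)
  have hr' : ∀ i, cm P.a₀ ≫ mulG hj (r i) = (pb (linMap k M hM)).map (P.π i) ≫ h := fun i => by
    rw [hr i, IsIso.hom_inv_id_assoc]
  refine ⟨fun i => r i, fun h0 => hh ?_, fun i => (r i).2, fun t => ?_⟩
  · refine ((pbAdj (linMap k M hM)).homEquiv _ _).injective ?_
    rw [show (pbAdj (linMap k M hM)).homEquiv _ _ (0 : (pb (linMap k M hM)).obj W ⟶ tw m k j) = 0 from by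
      haveI := (pbAdj (linMap k M hM)).left_adjoint_additive
      exact ((pbAdj (linMap k M hM)).homAddEquiv _ _).map_zero]
    refine P.ext _ fun i => ?_
    rw [← (pbAdj (linMap k M hM)).homEquiv_naturality_left, ← hr' i,
      show r i = 0 from Subtype.ext (congrFun h0 i), mulG_zero, comp_zero]
    haveI := (pbAdj (linMap k M hM)).left_adjoint_additive
    exact ((pbAdj (linMap k M hM)).homAddEquiv _ _).map_zero
  · let G : Fin P.b → CohB1.polyGrading m k P.e := fun i => ⟨lin k M (P.g t i), (lin k M).map_mem (P.g t i).2⟩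
    have h'' : P.a₁ + ((P.e + d : ℕ) : ℤ) = j := by rw [← hj, ← P.deg]; push_cast; ring
    have h0 : ∑ i, mulG P.deg (G i) ≫ mulG hj (r i) = 0 := by
      haveI := hcm P.a₁
      rw [← cancel_epi (cm P.a₁), comp_zero, Preadditive.comp_sum]
      haveI := (pbAdj (linMap k M hM)).left_adjoint_additive
      have e1 := congrArg (fun z => (pb (linMap k M hM)).map z ≫ h) (P.rel t)
      simp only [Functor.map_sum, Preadditive.sum_comp, Functor.map_comp, Functor.map_zero, zero_comp,
        Category.assoc] at e1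
      refine Eq.trans (Finset.sum_congr rfl fun i _ => ?_) e1
      rw [← Category.assoc, show cm P.a₁ ≫ mulG P.deg (G i) = (pb (linMap k M hM)).map (mulG P.deg (P.g t i)) ≫ cm P.a₀
        from (comparison_mulG _ _ P.deg (P.g t i)).symm, Category.assoc, hr' i]
    rw [eval_comp_mulG P.deg hj h'' G r] at h0
    exact congrArg Subtype.val (eq_zero_of_mulG hm h'' _ h0)

end Groth.Agent.Lib.PnLines.Coord
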