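import Groth.Agent.Lib.PnLines.Generic
import Mathlib.RingTheory.Derivation.MapCoeffs
import Mathlib.Algebra.MvPolynomial.PDeriv
import Mathlib.Algebra.MvPolynomial.Equiv
import Mathlib.Algebra.MvPolynomial.NoZeroDivisors
import Mathlib.RingTheory.Polynomial.UniqueFactorization
import Mathlib.RingTheory.MvPolynomial.Homogeneous
import Mathlib.Algebra.Polynomial.AlgebraMap
import Mathlib.Algebra.CharP.Algebra
import Mathlib.LinearAlgebra.LinearIndependent.Lemmas
import Mathlib.Tactic.LinearCombination

/-!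
# Descent along lines

`g` is a matrix of forms on `k^V`.  For points `p, q` the line through them carries the solutions
`Sol g p q d` of `∑ g s = 0` of degree at most `d` in the parameter `λ` of `p + λ q`.
If every line has solutions in degree `d` and some line has at most two independent ones in degree
`d + 1`, there is a global solution of degree `d` (`exists_global`).
-/

set_option autoImplicit false
set_option backward.isDefEq.respectTransparency false
set_option linter.all false

noncomputable section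

namespace Groth.Agent.Lib.PnLines.Descent

open Polynomial
open MvPolynomial (pderiv)

variable {k : Type*} [Field k] {V : Type*}

local notation "𝔸" => MvPolynomial (V ⊕ V) k
local notation "𝔹" => Polynomial (MvPolynomial (V ⊕ V) k)

/-- `g ↦ g(P + λ Q)`. -/
def φ : MvPolynomial V k →ₐ[k] Polynomial (MvPolynomial (V ⊕ V) k) :=
  MvPolynomial.aeval fun j =>
    C (MvPolynomial.X (Sum.inl j) : 𝔸) + X * C (MvPolynomial.X (Sum.inr j) : 𝔸)

/-- `g ↦ g(p + λ q)`. -/
def φat (p q : V → k) : MvPolynomial V k →ₐ[k] k[X] := MvPolynomial.aeval fun j => C (p j) + X * C (q j)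

/-- Evaluation at `(p, q)`. -/
def evp (p q : V → k) : 𝔸 →ₐ[k] k := MvPolynomial.aeval (Sum.elim p q)

theorem map_φ (p q : V → k) (g : MvPolynomial V k) : (φ g).map (evp p q).toRingHom = φat p q g := by
  refine DFunLike.congr_fun (MvPolynomial.algHom_ext (f := (Polynomial.mapAlgHom (evp p q)).comp φ)
    (g := φat p q) fun j => ?_) g
  simp [φ, φat, evp]

variable {I J : Type*} [Fintype I] (g : J → I → MvPolynomial V k)

/-- Solutions on a line. -/
def Sol (p q : V → k) (d : ℕ) : Submodule k (I → k[X]) where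
  carrier := {s | (∀ i, (s i).natDegree ≤ d) ∧ ∀ l, ∑ i, φat p q (g l i) * s i = 0}
  add_mem' {a b} ha hb := ⟨fun i => natDegree_add_le_of_degree_le (ha.1 i) (hb.1 i), fun l => by
    simp [mul_add, Finset.sum_add_distrib, ha.2 l, hb.2 l]⟩
  zero_mem' := ⟨fun i => by simp, fun l => by simp⟩
  smul_mem' c a ha := ⟨fun i => (natDegree_smul_le c (a i)).trans (ha.1 i), fun l => by
    simp [← Finset.smul_sum, ha.2 l]⟩

/-! ### The linear system -/

section Mat

variable {R : Type*} [CommRing R] {d : ℕ}

/-- The vector of polynomials with given coefficients. -/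
def pol (c : I × Fin (d + 1) → R) (i : I) : R[X] := ∑ a, C (c (i, a)) * X ^ (a : ℕ)

/-- The linear system. -/
def mat (G : J → I → R[X]) (d B : ℕ) : Matrix (J × Fin B) (I × Fin (d + 1)) R :=
  fun r c => (G r.1 c.1 * X ^ (c.2 : ℕ)).coeff r.2

theorem mulVec_mat (G : J → I → R[X]) (B : ℕ) (c : I × Fin (d + 1) → R) (r : J × Fin B) :
    (mat G d B).mulVec c r = (∑ i, G r.1 i * pol c i).coeff r.2 := by
  simp only [Matrix.mulVec, dotProduct, Fintype.sum_prod_type, pol, Finset.mul_sum, finsetSum_coeff, mat]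
  refine Finset.sum_congr rfl fun i _ => Finset.sum_congr rfl fun a _ => ?_
  rw [mul_left_comm, coeff_C_mul, mul_comm]

omit [Fintype I] in
theorem coeff_pol (c : I × Fin (d + 1) → R) (i : I) (a : Fin (d + 1)) :
    (pol c i).coeff (a : ℕ) = c (i, a) := by
  simp [pol, finsetSum_coeff, coeff_C_mul, coeff_X_pow, Fin.val_inj, Finset.sum_ite_eq]

omit [Fintype I] in
theorem natDegree_pol_le (c : I × Fin (d + 1) → R) (i : I) : (pol c i).natDegree ≤ d :=
  natDegree_sum_le_of_forall_le _ _ fun a _ => (natDegree_C_mul_X_pow_le _ _).trans (Nat.lt_succ_iff.1 a.2)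

omit [Fintype I] in
theorem pol_coeff (s : I → R[X]) (hs : ∀ i, (s i).natDegree ≤ d) :
    pol (fun x : I × Fin (d + 1) => (s x.1).coeff x.2) = s := funext fun i => by
  ext a
  rcases Nat.lt_or_ge a (d + 1) with ha | ha
  · exact coeff_pol _ i ⟨a, ha⟩
  · rw [coeff_eq_zero_of_natDegree_lt ((natDegree_pol_le _ i).trans_lt ha),
      coeff_eq_zero_of_natDegree_lt ((hs i).trans_lt ha)]

theorem mulVec_eq_zero_iff (G : J → I → R[X]) {B : ℕ} (hB : ∀ l i, (G l i).natDegree + d < B)
    (c : I × Fin (d + 1) → R) : (mat G d B).mulVec c = 0 ↔ ∀ l, ∑ i, G l i * pol c i = 0 := by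
  refine ⟨fun h l => ?_, fun h => funext fun r => by rw [mulVec_mat, h, coeff_zero]; rfl⟩
  ext b
  rw [coeff_zero]
  rcases Nat.lt_or_ge b B with hb | hb
  · exact (mulVec_mat G B c (l, ⟨b, hb⟩)).symm.trans (congrFun h _)
  · rw [finsetSum_coeff]
    refine Finset.sum_eq_zero fun i _ => coeff_eq_zero_of_natDegree_lt ?_
    have := natDegree_pol_le c i
    have := natDegree_mul_le (p := G l i) (q := pol c i)
    have := hB l i
    omega

omit [Fintype I] in
theorem map_mat {R' : Type*} [CommRing R'] (f : R →+* R') (G : J → I → R[X]) (B : ℕ) :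
    (mat G d B).map f = mat (fun l i => (G l i).map f) d B := by
  ext r c
  simp only [Matrix.map_apply, mat, ← coeff_map, Polynomial.map_mul, Polynomial.map_pow, map_X]

end Mat

variable [Fintype J]

/-- A degree bound for the system. -/
def bd (d : ℕ) : ℕ := (Finset.univ.sup fun x : J × I => (φ (g x.1 x.2)).natDegree) + d + 1

theorem lt_bd (d : ℕ) (l : J) (i : I) : (φ (g l i)).natDegree + d < bd g d := by
  have := Finset.le_sup (f := fun x : J × I => (φ (g x.1 x.2)).natDegree) (Finset.mem_univ (l, i))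
  simp only at this
  unfold bd
  omega

theorem map_system (p q : V → k) (d : ℕ) :
    (mat (fun l i => φ (g l i)) d (bd g d)).map (evp p q) = mat (fun l i => φat p q (g l i)) d (bd g d) := by
  refine (map_mat (evp p q).toRingHom _ _).trans ?_
  simp only [map_φ]

theorem lt_bd' (p q : V → k) (d : ℕ) (l : J) (i : I) : (φat p q (g l i)).natDegree + d < bd g d := by
  have := natDegree_map_le (f := (evp p q).toRingHom) (p := φ (g l i))
  rw [map_φ] at this
  have := lt_bd g d l i
  omega

variable [DecidableEq I] [DecidableEq J]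

theorem finrank_ker_le (p q : V → k) (d : ℕ) :
    Module.finrank k (LinearMap.ker (Matrix.mulVecLin ((mat (fun l i => φ (g l i)) d (bd g d)).map (evp p q)))) ≤
      Module.finrank k (Sol g p q d) := by
  rw [map_system]
  let M := mat (fun l i => φat p q (g l i)) d (bd g d)
  let cf : Sol g p q d →ₗ[k] (I × Fin (d + 1) → k) :=
    { toFun := fun s x => (s.1 x.1).coeff x.2
      map_add' := fun s t => funext fun x => coeff_add _ _ _
      map_smul' := fun c s => funext fun x => coeff_smul _ _ _ }
  have hcf : Function.Injective cf := fun s t h => Subtype.ext (by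
    rw [← pol_coeff s.1 s.2.1, ← pol_coeff t.1 t.2.1]
    exact congrArg pol h)
  haveI := Module.Finite.of_injective cf hcf
  refine LinearMap.finrank_le_finrank_of_injective (f :=
    { toFun := fun c => (⟨pol c.1, natDegree_pol_le c.1,
          (mulVec_eq_zero_iff _ (lt_bd' g p q d) c.1).1 c.2⟩ : Sol g p q d)
      map_add' := fun a b => Subtype.ext (funext fun i => by
        simp [pol, add_mul, Finset.sum_add_distrib])
      map_smul' := fun r a => Subtype.ext (funext fun i => by
        simp [pol, Finset.smul_sum, smul_eq_C_mul, mul_assoc]) }) fun a b h => Subtype.ext (funext fun x => ?_)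
  have := congrArg (fun s : Sol g p q d => (s.1 x.1).coeff x.2) h
  simpa [coeff_pol] using this

/-- A solution on the generic line. -/
theorem exists_generic [Infinite k] [Nontrivial V] (d : ℕ)
    (hall : ∀ p q : V → k, LinearIndependent k ![p, q] → Sol g p q d ≠ ⊥) :
    ∃ σ : I → Polynomial (MvPolynomial (V ⊕ V) k), σ ≠ 0 ∧ (∀ i, (σ i).natDegree ≤ d) ∧
      ∀ l, ∑ i, φ (g l i) * σ i = 0 := by
  classical
  obtain ⟨j₀, j₁, hj⟩ := exists_pair_ne V
  let Δ : MvPolynomial (V ⊕ V) k := MvPolynomial.X (Sum.inl j₀) * MvPolynomial.X (Sum.inr j₁) -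
    MvPolynomial.X (Sum.inl j₁) * MvPolynomial.X (Sum.inr j₀)
  have hΔ : Δ ≠ 0 := by
    intro h
    have := congrArg (MvPolynomial.eval (Sum.elim (fun j => if j = j₀ then 1 else 0)
      (fun j => if j = j₁ then (1 : k) else 0))) h
    simp [Δ, hj, hj.symm] at this
  obtain ⟨c, hc0, hc⟩ := Generic.exists_ker (mat (fun l i => φ (g l i)) d (bd g d)) hΔ fun x hx => by
    have hind : LinearIndependent k ![x ∘ Sum.inl, x ∘ Sum.inr] := by
      rw [LinearIndependent.pair_iff]
      intro a b hab
      have e0 := congrFun hab j₀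
      have e1 := congrFun hab j₁
      simp only [Pi.add_apply, Pi.smul_apply, Function.comp_apply, smul_eq_mul, Pi.zero_apply] at e0 e1
      simp only [Δ, map_sub, map_mul, MvPolynomial.eval_X] at hx
      exact ⟨(mul_eq_zero.1 (show a * (x (Sum.inl j₀) * x (Sum.inr j₁) - x (Sum.inl j₁) * x (Sum.inr j₀)) = 0 by
          linear_combination x (Sum.inr j₁) * e0 - x (Sum.inr j₀) * e1)).resolve_right hx,
        (mul_eq_zero.1 (show b * (x (Sum.inl j₀) * x (Sum.inr j₁) - x (Sum.inl j₁) * x (Sum.inr j₀)) = 0 by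
          linear_combination x (Sum.inl j₀) * e1 - x (Sum.inl j₁) * e0)).resolve_right hx⟩
    obtain ⟨s, hs, hs0⟩ := Submodule.exists_mem_ne_zero_of_ne_bot (hall _ _ hind)
    refine ⟨fun a => (s a.1).coeff a.2, fun h0 => hs0 ?_, ?_⟩
    · rw [← pol_coeff s hs.1, h0]
      funext i
      simp [pol]
    · have e : (MvPolynomial.eval x : MvPolynomial (V ⊕ V) k → k) = evp (x ∘ Sum.inl) (x ∘ Sum.inr) := by
        funext f
        rw [evp, Sum.elim_comp_inl_inr]
        exact (MvPolynomial.aeval_eq_eval x ▸ rfl : MvPolynomial.eval x f = MvPolynomial.aeval x f)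
      rw [e, map_system, mulVec_eq_zero_iff _ (lt_bd' g _ _ d), pol_coeff s hs.1]
      exact hs.2
  refine ⟨pol c, fun h => hc0 (funext fun x => ?_), natDegree_pol_le c,
    (mulVec_eq_zero_iff _ (lt_bd g d) c).1 hc⟩
  have := congrArg (fun s : I → Polynomial (MvPolynomial (V ⊕ V) k) => (s x.1).coeff x.2) h
  simpa [coeff_pol] using this

/-- With few solutions on one line, all solutions of degree `d + 1` are proportional to a given one
of degree `d`. -/
theorem cross {d : ℕ} {p₀ q₀ : V → k} (hone : Module.finrank k (Sol g p₀ q₀ (d + 1)) ≤ 2)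
    {σ : I → Polynomial (MvPolynomial (V ⊕ V) k)} (hσ : σ ≠ 0) (hσd : ∀ i, (σ i).natDegree ≤ d)
    (hσe : ∀ l, ∑ i, φ (g l i) * σ i = 0) {τ : I → Polynomial (MvPolynomial (V ⊕ V) k)}
    (hτd : ∀ i, (τ i).natDegree ≤ d + 1) (hτe : ∀ l, ∑ i, φ (g l i) * τ i = 0) (i j : I) :
    τ i * σ j = τ j * σ i := by
  classical
  let w : Fin 3 → I → Polynomial (MvPolynomial (V ⊕ V) k) := ![σ, fun i => X * σ i, τ]
  have hw : ∀ a, (∀ i, (w a i).natDegree ≤ d + 1) ∧ ∀ l, ∑ i, φ (g l i) * w a i = 0 := by
    intro a
    fin_cases a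
    · exact ⟨fun i => (hσd i).trans (Nat.le_succ d), hσe⟩
    · refine ⟨fun i => natDegree_mul_le.trans ?_, fun l => ?_⟩
      · simp only [natDegree_X]
        have := hσd i
        omega
      · show ∑ i, φ (g l i) * (X * σ i) = 0
        simp only [mul_left_comm _ X, ← Finset.mul_sum, hσe l, mul_zero]
    · exact ⟨hτd, hτe⟩
  obtain ⟨c, hc0, hc⟩ := Generic.dependent_of_map (evp p₀ q₀) (mat (fun l i => φ (g l i)) (d + 1) (bd g (d + 1)))
    ((finrank_ker_le g p₀ q₀ (d + 1)).trans hone) (fun a x => (w a x.1).coeff x.2) (fun a => by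
      rw [mulVec_eq_zero_iff _ (lt_bd g (d + 1)), pol_coeff (w a) (hw a).1]
      exact (hw a).2) (by simp)
  have hlin : ∀ i, C (c 0) * σ i + C (c 1) * (X * σ i) + C (c 2) * τ i = 0 := by
    intro i
    refine Polynomial.ext fun b => ?_
    rcases Nat.lt_or_ge b (d + 1 + 1) with hb | hb
    · have := congrFun hc (i, ⟨b, hb⟩)
      simp only [Fin.sum_univ_three, Pi.add_apply, Pi.smul_apply, smul_eq_mul, Pi.zero_apply] at this
      simpa [w, coeff_C_mul] using this
    · simp only [coeff_add, coeff_C_mul, coeff_zero]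
      have h0 : (σ i).coeff b = 0 := coeff_eq_zero_of_natDegree_lt (((hw 0).1 i).trans_lt hb)
      have h1 : (X * σ i).coeff b = 0 := coeff_eq_zero_of_natDegree_lt (((hw 1).1 i).trans_lt hb)
      have h2 : (τ i).coeff b = 0 := coeff_eq_zero_of_natDegree_lt (((hw 2).1 i).trans_lt hb)
      simp [h0, h1, h2]
  have h2 : c 2 ≠ 0 := by
    intro h2
    obtain ⟨i, hi⟩ := Function.ne_iff.1 hσ
    have h := hlin i
    rw [h2, map_zero, zero_mul, add_zero, ← mul_assoc, ← add_mul] at h
    have h' := (mul_eq_zero.1 h).resolve_right hi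
    have e0 : c 0 = 0 := by simpa [coeff_C_mul, coeff_C] using congrArg (fun f : Polynomial (MvPolynomial (V ⊕ V) k) => f.coeff 0) h'
    have e1 : c 1 = 0 := by simpa [coeff_C_mul, coeff_C] using congrArg (fun f : Polynomial (MvPolynomial (V ⊕ V) k) => f.coeff 1) h'
    exact hc0 (funext fun a => by fin_cases a <;> assumption)
  refine mul_left_cancel₀ (C_ne_zero.2 h2) ?_
  linear_combination σ j * hlin i - σ i * hlin j

/-! ### Derivations -/

/-- A partial derivative acting on coefficients. -/
def dC (v : V ⊕ V) : Derivation k (Polynomial (MvPolynomial (V ⊕ V) k)) (Polynomial (MvPolynomial (V ⊕ V) k)) :=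
  PolynomialModule.equivPolynomialSelf.toLinearMap.compDer (pderiv (R := k) v).mapCoeffs

omit [Fintype I] [Fintype J] [DecidableEq I] [DecidableEq J] in
theorem coeff_dC (v : V ⊕ V) (f : Polynomial (MvPolynomial (V ⊕ V) k)) (b : ℕ) :
    (dC v f).coeff b = pderiv v (f.coeff b) := rfl

omit [Fintype I] [Fintype J] [DecidableEq I] [DecidableEq J] in
theorem dC_C (v : V ⊕ V) (a : MvPolynomial (V ⊕ V) k) : dC v (C a) = C (pderiv v a) := by
  ext b
  rw [coeff_dC, coeff_C, coeff_C]
  split <;> simp

omit [Fintype I] [Fintype J] [DecidableEq I] [DecidableEq J] in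
theorem dC_X (v : V ⊕ V) : dC v X = (0 : Polynomial (MvPolynomial (V ⊕ V) k)) := by
  ext b
  rw [coeff_dC, coeff_X]
  split <;> simp

omit [Fintype I] [Fintype J] [DecidableEq I] [DecidableEq J] in
theorem natDegree_dC_le (v : V ⊕ V) (f : Polynomial (MvPolynomial (V ⊕ V) k)) :
    (dC v f).natDegree ≤ f.natDegree := natDegree_le_iff_coeff_eq_zero.2 fun b hb => by
  rw [coeff_dC, coeff_eq_zero_of_natDegree_lt hb, map_zero]

omit [Fintype I] [Fintype J] [DecidableEq I] [DecidableEq J] in
theorem dC_φ [DecidableEq V] (j : V) (f : MvPolynomial V k) :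
    dC (Sum.inl j) (φ f) = φ (pderiv j f) ∧ dC (Sum.inr j) (φ f) = X * φ (pderiv j f) := by
  induction f using MvPolynomial.induction_on with
  | C a => simp [φ, dC_C]
  | add a b ha hb => simp [ha.1, ha.2, hb.1, hb.2, mul_add]
  | mul_X a l ha =>
    constructor
    · rw [map_mul, Derivation.leibniz, ha.1, MvPolynomial.pderiv_mul, map_add, map_mul, map_mul]
      by_cases h : l = j
      · subst h; simp [φ, dC_C, dC_X, MvPolynomial.pderiv_X]; ring
      · simp [φ, dC_C, dC_X, MvPolynomial.pderiv_X, Pi.single_apply, h, Ne.symm h]; ring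
    · rw [map_mul, Derivation.leibniz, ha.2, MvPolynomial.pderiv_mul, map_add, map_mul, map_mul]
      by_cases h : l = j
      · subst h; simp [φ, dC_C, dC_X, MvPolynomial.pderiv_X]; ring
      · simp [φ, dC_C, dC_X, MvPolynomial.pderiv_X, Pi.single_apply, h, Ne.symm h]; ring

omit [Fintype I] [Fintype J] [DecidableEq I] [DecidableEq J] in
theorem derivative_φ [Fintype V] [DecidableEq V] (f : MvPolynomial V k) :
    derivative (φ f) = ∑ j, C (MvPolynomial.X (Sum.inr j)) * φ (pderiv j f) := by
  induction f using MvPolynomial.induction_on with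
  | C a => simp [φ]
  | add a b ha hb => simp [ha, hb, mul_add, Finset.sum_add_distrib]
  | mul_X a l ha =>
    have hX : derivative (φ (MvPolynomial.X l : MvPolynomial V k)) = C (MvPolynomial.X (Sum.inr l) : 𝔸) := by
      simp [φ]
    have h : ∀ j, φ (pderiv j (a * MvPolynomial.X l)) =
        φ (pderiv j a) * φ (MvPolynomial.X l) + φ a * (if j = l then 1 else 0) := by
      intro j
      by_cases h : j = l
      · subst h; simp [MvPolynomial.pderiv_X]; ring
      · simp [MvPolynomial.pderiv_X, h, Ne.symm h]; ring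
    rw [map_mul, derivative_mul, hX, ha, Finset.sum_mul]
    simp only [h, mul_add, Finset.sum_add_distrib, mul_assoc]
    congr 1
    rw [Finset.sum_eq_single l (fun b _ hb => by rw [if_neg hb, mul_zero, mul_zero])
      (fun hl => absurd (Finset.mem_univ l) hl), if_pos rfl, mul_one]
    ring

variable [Fintype V] [DecidableEq V]

/-- `λ ∂_{P_j} - ∂_{Q_j}`. -/
def τ (σ : I → Polynomial (MvPolynomial (V ⊕ V) k)) (j : V) (i : I) : Polynomial (MvPolynomial (V ⊕ V) k) :=
  X * dC (Sum.inl j) (σ i) - dC (Sum.inr j) (σ i)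

/-- `∑ Q_j ∂_{P_j} - ∂_λ`. -/
def δ (σ : I → Polynomial (MvPolynomial (V ⊕ V) k)) (i : I) : Polynomial (MvPolynomial (V ⊕ V) k) :=
  ∑ j, C (MvPolynomial.X (Sum.inr j)) * dC (Sum.inl j) (σ i) - derivative (σ i)

theorem τ_spec {d : ℕ} {σ : I → Polynomial (MvPolynomial (V ⊕ V) k)} (hσd : ∀ i, (σ i).natDegree ≤ d)
    (hσe : ∀ l, ∑ i, φ (g l i) * σ i = 0) (j : V) :
    (∀ i, (τ σ j i).natDegree ≤ d + 1) ∧ ∀ l, ∑ i, φ (g l i) * τ σ j i = 0 := by
  refine ⟨fun i => ?_, fun l => ?_⟩
  · refine (natDegree_sub_le _ _).trans (max_le (natDegree_mul_le.trans ?_) ?_)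
    · have := natDegree_dC_le (Sum.inl j) (σ i)
      have := hσd i
      simp only [natDegree_X]
      omega
    · exact ((natDegree_dC_le _ _).trans (hσd i)).trans (Nat.le_succ d)
  · have e : ∀ v, ∑ i, (φ (g l i) * dC v (σ i) + σ i * dC v (φ (g l i))) = 0 := fun v => by
      have := congrArg (dC v) (hσe l)
      simpa [Derivation.leibniz] using this
    have eP := e (Sum.inl j)
    have eQ := e (Sum.inr j)
    simp only [(dC_φ j _).1, (dC_φ j _).2, Finset.sum_add_distrib] at eP eQ
    simp only [τ, mul_sub, Finset.sum_sub_distrib, mul_left_comm _ X, ← Finset.mul_sum]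
    simp only [mul_left_comm _ X, ← Finset.mul_sum] at eQ
    linear_combination X * eP - eQ

theorem neg_sum_aux {R ι : Type*} [CommRing R] (s : Finset ι) (f : ι → R) {B : R} (h : ∑ i ∈ s, f i + B = 0) :
    ∑ i ∈ s, -f i - B = 0 := by
  rw [Finset.sum_neg_distrib]
  linear_combination -h

theorem δ_spec {d : ℕ} {σ : I → Polynomial (MvPolynomial (V ⊕ V) k)} (hσd : ∀ i, (σ i).natDegree ≤ d)
    (hσe : ∀ l, ∑ i, φ (g l i) * σ i = 0) :
    (∀ i, (δ σ i).natDegree ≤ d + 1) ∧ ∀ l, ∑ i, φ (g l i) * δ σ i = 0 := by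
  refine ⟨fun i => ?_, fun l => ?_⟩
  · refine (natDegree_sub_le _ _).trans (max_le (natDegree_sum_le_of_forall_le _ _ fun j _ =>
      (natDegree_C_mul_le _ _).trans (((natDegree_dC_le _ _).trans (hσd i)).trans (Nat.le_succ d))) ?_)
    exact ((natDegree_derivative_le _).trans (Nat.sub_le _ _)).trans ((hσd i).trans (Nat.le_succ d))
  · have eT := congrArg derivative (hσe l)
    simp only [map_sum, derivative_mul, derivative_zero, Finset.sum_add_distrib, derivative_φ, Finset.sum_mul] at eT
    have eP : ∀ j, ∑ i, φ (g l i) * dC (Sum.inl j) (σ i) = -∑ i, σ i * φ (pderiv j (g l i)) := fun j => by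
      have := congrArg (dC (Sum.inl j)) (hσe l)
      simp only [map_sum, map_zero, Derivation.leibniz, smul_eq_mul, Finset.sum_add_distrib, (dC_φ j _).1] at this
      linear_combination this
    simp only [δ, mul_sub, Finset.sum_sub_distrib, Finset.mul_sum]
    rw [Finset.sum_comm]
    simp only [mul_left_comm _ (C (MvPolynomial.X (Sum.inr _) : 𝔸)), ← Finset.mul_sum, eP, mul_neg,
      Finset.sum_neg_distrib]
    rw [Finset.sum_comm] at eT
    simp only [mul_assoc, ← Finset.mul_sum] at eT
    simp only [mul_comm (σ _)]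
    exact (congrArg (fun t => t - ∑ x, φ (g l x) * derivative (σ x))
      (Finset.sum_congr rfl fun x _ => mul_neg _ _)).trans (neg_sum_aux _ _ eT)

/-! ### The curve -/

omit [Fintype V] [DecidableEq V] in
theorem derivative_line {R : Type*} [CommRing R] (a c l T Q : R[X]) (ha : derivative a = 0)
    (hc : derivative c = 0) (hl : derivative l = 0) :
    derivative (a + l * c - T * Q) = -(derivative T * Q) - T * derivative Q := by
  simp [derivative_mul, ha, hc, hl]
  ring

theorem along_aux {A R ι : Type*} [CommRing A] [CommRing R] [Fintype ι] (G : A →+* R) (T' t : R) {x : A}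
    (hx : G x = t) (Q' : ι → R) (c : ι → A) (Q : ι → R) (hc : ∀ j, G (c j) = Q j) (dl dr : ι → A) (f : A) :
    ∑ j, ((-(T' * Q j) - t * Q' j) * G (dl j) + Q' j * G (dr j)) + T' * G f =
      -(T' * G (∑ j, c j * dl j - f)) - ∑ j, Q' j * G (x * dl j - dr j) := by
  simp only [map_sub, map_sum, map_mul, hx, hc]
  rw [mul_sub, Finset.mul_sum, neg_sub, sub_sub, ← Finset.sum_add_distrib, sub_eq_add_neg,
    ← Finset.sum_neg_distrib, add_comm]
  congr 1
  exact Finset.sum_congr rfl fun j _ => by ring

theorem cross_aux {A R ι : Type*} [CommRing A] [CommRing R] [Fintype ι] (G : A →+* R) (T' : R) (Q' : ι → R)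
    (da db sa sb : A) (ta tb : ι → A) (hd : da * sb = db * sa) (ht : ∀ j, ta j * sb = tb j * sa) :
    (-(T' * G da) - ∑ j, Q' j * G (ta j)) * G sb = (-(T' * G db) - ∑ j, Q' j * G (tb j)) * G sa := by
  simp only [sub_mul, neg_mul, Finset.sum_mul, mul_assoc, ← map_mul, hd, ht]

/-- A Wronskian lemma. -/
theorem eval_cross {R : Type*} [CommRing R] [IsDomain R] [CharZero R] {a b : R[X]}
    (h : derivative a * b = derivative b * a) :
    a.eval 0 * b.eval 1 = b.eval 0 * a.eval 1 := by
  rcases eq_or_ne b 0 with rfl | hb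
  · simp
  rcases eq_or_ne a 0 with rfl | ha
  · simp
  have key : ∀ f : R[X], f ≠ 0 → derivative f * b = derivative b * f → f.natDegree = b.natDegree := by
    intro f hf hw
    rcases Nat.eq_zero_or_pos f.natDegree with h0 | h0
    · have e := eq_C_of_natDegree_eq_zero h0
      rw [e, derivative_C, zero_mul] at hw
      have hb' : derivative b = 0 := (mul_eq_zero.1 hw.symm).resolve_right (e ▸ hf)
      rw [h0, eq_comm]
      exact natDegree_eq_zero_of_derivative_eq_zero hb'
    · rcases Nat.eq_zero_or_pos b.natDegree with h1 | h1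
      · have e := eq_C_of_natDegree_eq_zero h1
        rw [e, derivative_C, zero_mul] at hw
        have := natDegree_eq_zero_of_derivative_eq_zero ((mul_eq_zero.1 hw).resolve_right (e ▸ hb))
        omega
      · have := congrArg leadingCoeff hw
        rw [leadingCoeff_mul, leadingCoeff_mul, leadingCoeff_derivative, leadingCoeff_derivative] at this
        have h2 : ((f.natDegree : R) - b.natDegree) * (f.leadingCoeff * b.leadingCoeff) = 0 := by
          linear_combination this
        rcases mul_eq_zero.1 h2 with h3 | h3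
        · exact_mod_cast sub_eq_zero.1 h3
        · exact absurd h3 (mul_ne_zero (leadingCoeff_ne_zero.2 hf) (leadingCoeff_ne_zero.2 hb))
  have hda := key a ha h
  let c : R[X] := C b.leadingCoeff * a - C a.leadingCoeff * b
  have hc : c = 0 := by
    by_contra hc
    have hd := key c hc (by
      simp only [c, derivative_sub, derivative_C_mul]
      linear_combination C b.leadingCoeff * h)
    have h0 : c.coeff b.natDegree = 0 := by
      simp only [c, coeff_sub, coeff_C_mul, coeff_natDegree]
      rw [← hda, coeff_natDegree]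
      ring
    rw [← hd, coeff_natDegree] at h0
    exact hc (leadingCoeff_eq_zero.1 h0)
  refine mul_left_cancel₀ (mul_ne_zero (leadingCoeff_ne_zero.2 hb) (leadingCoeff_ne_zero.2 ha)) ?_
  have e0 := congrArg (fun f : R[X] => f.eval 0) hc
  have e1 := congrArg (fun f : R[X] => f.eval 1) hc
  simp only [c, eval_sub, eval_mul, eval_C, eval_zero] at e0 e1
  linear_combination a.leadingCoeff * b.eval 1 * e0 - a.leadingCoeff * b.eval 0 * e1

/-- The base point `σ(x, q, 0)`. -/
def base (q : V → k) : Polynomial (MvPolynomial (V ⊕ V) k) →+* MvPolynomial V k :=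
  (MvPolynomial.aeval (Sum.elim MvPolynomial.X (fun j => MvPolynomial.C (q j)))).toRingHom.comp
    Polynomial.constantCoeff

/-- The derivations `δ`, `τ` control the curve `u ↦ (p + (l - T u) Q u, Q u, T u)`. -/
theorem curve {R : Type*} [CommRing R] [IsDomain R] [CharZero R] [Algebra k R] (pP qP cq : V → R) (l : R)
    (sa sb : 𝔹) (Da Db : 𝔹) (Ta Tb : V → 𝔹)
    (hDa : Da = ∑ j, C (MvPolynomial.X (Sum.inr j) : 𝔸) * dC (Sum.inl j) sa - derivative sa)
    (hDb : Db = ∑ j, C (MvPolynomial.X (Sum.inr j) : 𝔸) * dC (Sum.inl j) sb - derivative sb)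
    (hTa : ∀ j, Ta j = X * dC (Sum.inl j) sa - dC (Sum.inr j) sa)
    (hTb : ∀ j, Tb j = X * dC (Sum.inl j) sb - dC (Sum.inr j) sb)
    (hd : Da * sb = Db * sa) (ht : ∀ j, Ta j * sb = Tb j * sa) :
    aevalTower (MvPolynomial.aeval (Sum.elim pP qP)) l sa *
        aevalTower (MvPolynomial.aeval (Sum.elim (fun j => pP j + l * qP j) cq)) (0 : R) sb =
      aevalTower (MvPolynomial.aeval (Sum.elim pP qP)) l sb *
        aevalTower (MvPolynomial.aeval (Sum.elim (fun j => pP j + l * qP j) cq)) (0 : R) sa := by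
  let Tu : R[X] := C l * (1 - X)
  let Qu : V → R[X] := fun j => C (qP j) - X * (C (qP j) - C (cq j))
  let Pu : V → R[X] := fun j => C (pP j) + C l * C (qP j) - Tu * Qu j
  obtain ⟨Γ, hΓC, hΓX⟩ : ∃ Γ : 𝔹 →ₐ[k] R[X],
      (∀ a, Γ (C a) = MvPolynomial.aeval (Sum.elim Pu Qu) a) ∧ Γ X = Tu :=
    ⟨Polynomial.aevalTower (MvPolynomial.aeval (Sum.elim Pu Qu)) Tu,
      fun a => Polynomial.aevalTower_C _ _ a, Polynomial.aevalTower_X _ _⟩
  have hcQ : ∀ j, Γ.toRingHom (C (MvPolynomial.X (Sum.inr j) : 𝔸)) = Qu j := fun j => by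
    show Γ _ = _
    rw [hΓC, MvPolynomial.aeval_X]
    rfl
  -- the chain rule
  have chain : ∀ f : 𝔹, derivative (Γ f) =
      ∑ j, (derivative (Pu j) * Γ (dC (Sum.inl j) f) + derivative (Qu j) * Γ (dC (Sum.inr j) f)) +
        derivative Tu * Γ (derivative f) := by
    intro f
    induction f using Polynomial.induction_on with
    | C a =>
      rw [derivative_C, map_zero, mul_zero, add_zero]
      simp only [dC_C, hΓC]
      induction a using MvPolynomial.induction_on with
      | C c =>
        rw [MvPolynomial.aeval_C, IsScalarTower.algebraMap_apply k R R[X], Polynomial.algebraMap_eq,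
          derivative_C]
        simp
      | add a b ha hb =>
        simp only [map_add, ha, hb, mul_add, Finset.sum_add_distrib]
        ring
      | mul_X a v ha =>
        simp only [map_mul, derivative_mul, ha, MvPolynomial.aeval_X, MvPolynomial.pderiv_mul, map_add]
        simp only [mul_add, Finset.sum_add_distrib, add_mul, Finset.sum_mul, ← mul_assoc]
        rcases v with v | v <;>
          simp [MvPolynomial.pderiv_X, Pi.single_apply, apply_ite (MvPolynomial.aeval (Sum.elim Pu Qu))] <;> ring
    | add f f' hf hf' =>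
      simp only [map_add, hf, hf', mul_add, Finset.sum_add_distrib]
      ring
    | monomial n a ih =>
      have e : ∀ v, Γ (dC v (C a * X ^ n * X)) = Γ (dC v (C a * X ^ n)) * Tu := fun v => by
        rw [Derivation.leibniz, dC_X, smul_zero, zero_add, smul_eq_mul, map_mul, hΓX]
        ring
      have e' : Γ (derivative (C a * X ^ n * X)) = Γ (derivative (C a * X ^ n)) * Tu + Γ (C a * X ^ n) := by
        rw [derivative_mul, derivative_X, mul_one, map_add, map_mul, hΓX]
      rw [pow_succ, ← mul_assoc, map_mul, derivative_mul, ih, hΓX]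
      simp only [e, e', ← mul_assoc, ← add_mul, ← Finset.sum_mul]
      ring
  have hdP : ∀ j, derivative (Pu j) = -(derivative Tu * Qu j) - Tu * derivative (Qu j) := fun j =>
    derivative_line _ _ _ _ _ derivative_C derivative_C derivative_C
  have along : ∀ f : 𝔹, derivative (Γ f) =
      -(derivative Tu * Γ (∑ j, C (MvPolynomial.X (Sum.inr j) : 𝔸) * dC (Sum.inl j) f - derivative f)) -
        ∑ j, derivative (Qu j) * Γ (X * dC (Sum.inl j) f - dC (Sum.inr j) f) := by
    intro f
    rw [chain]
    simp only [hdP]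
    exact along_aux Γ.toRingHom (derivative Tu) Tu (x := X) hΓX (fun j => derivative (Qu j))
      (fun j => C (MvPolynomial.X (Sum.inr j) : 𝔸)) Qu hcQ (fun j => dC (Sum.inl j) f)
      (fun j => dC (Sum.inr j) f) (derivative f)
  have hw : derivative (Γ sa) * Γ sb = derivative (Γ sb) * Γ sa := by
    rw [along, along, ← hDa, ← hDb]
    simp only [← hTa, ← hTb]
    exact cross_aux Γ.toRingHom (derivative Tu) (fun j => derivative (Qu j)) Da Db sa sb Ta Tb hd ht
  have h0 : ∀ f : 𝔹, (Γ f).eval 0 = aevalTower (MvPolynomial.aeval (Sum.elim pP qP)) l f := by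
    intro f
    induction f using Polynomial.induction_on with
    | C a =>
      rw [hΓC, aevalTower_C]
      induction a using MvPolynomial.induction_on with
      | C c => simp [IsScalarTower.algebraMap_apply k R R[X], Polynomial.algebraMap_eq]
      | add a b ha hb => simp [ha, hb]
      | mul_X a v ha => rcases v with v | v <;> simp [ha, Pu, Qu, Tu]
    | add a b ha hb => simp [ha, hb]
    | monomial n a ih =>
      rw [pow_succ, ← mul_assoc, map_mul Γ, map_mul (aevalTower _ _), eval_mul, ih, hΓX, aevalTower_X]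
      simp [Tu]
  have h1 : ∀ f : 𝔹, (Γ f).eval 1 =
      aevalTower (MvPolynomial.aeval (Sum.elim (fun j => pP j + l * qP j) cq)) (0 : R) f := by
    intro f
    induction f using Polynomial.induction_on with
    | C a =>
      rw [hΓC, aevalTower_C]
      induction a using MvPolynomial.induction_on with
      | C c => simp [IsScalarTower.algebraMap_apply k R R[X], Polynomial.algebraMap_eq]
      | add a b ha hb => simp [ha, hb]
      | mul_X a v ha => rcases v with v | v <;> simp [ha, Pu, Qu, Tu]
    | add a b ha hb => simp [ha, hb]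
    | monomial n a ih =>
      rw [pow_succ, ← mul_assoc, map_mul Γ, map_mul (aevalTower _ _), eval_mul, ih, hΓX, aevalTower_X]
      simp [Tu]
  have h := eval_cross hw
  rwa [h0, h0, h1, h1] at h

theorem proportional [CharZero k] {d : ℕ} {p₀ q₀ : V → k} (hone : Module.finrank k (Sol g p₀ q₀ (d + 1)) ≤ 2)
    {σ : I → Polynomial (MvPolynomial (V ⊕ V) k)} (hσ : σ ≠ 0) (hσd : ∀ i, (σ i).natDegree ≤ d)
    (hσe : ∀ l, ∑ i, φ (g l i) * σ i = 0) (q : V → k) :
    (∀ l, ∑ i, g l i * base q (σ i) = 0) ∧
      ∀ a b, σ a * φ (base q (σ b)) = σ b * φ (base q (σ a)) := by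
  have h0 : ∀ f : 𝔹, aevalTower (MvPolynomial.aeval (Sum.elim (fun j => C (MvPolynomial.X (Sum.inl j) : 𝔸))
      (fun j => C (MvPolynomial.X (Sum.inr j) : 𝔸)))) (X : 𝔹) f = f := by
    intro f
    refine DFunLike.congr_fun (f := (aevalTower _ (X : 𝔹))) (g := AlgHom.id k 𝔹) ?_ f
    refine Polynomial.algHom_ext' (MvPolynomial.algHom_ext fun v => ?_) ?_
    · rcases v with v | v <;> simp
    · simp
  have h1 : ∀ f : 𝔹, aevalTower (MvPolynomial.aeval (Sum.elim
      (fun j => C (MvPolynomial.X (Sum.inl j) : 𝔸) + X * C (MvPolynomial.X (Sum.inr j) : 𝔸))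
      (fun j => C (MvPolynomial.C (q j)) : V → 𝔹))) (0 : 𝔹) f = φ (base q f) := by
    intro f
    refine RingHom.congr_fun (f := (aevalTower _ (0 : 𝔹)).toRingHom) (g := φ.toRingHom.comp (base q)) ?_ f
    refine Polynomial.ringHom_ext' (MvPolynomial.ringHom_ext (fun c => ?_) fun v => ?_) ?_
    · simp [base, φ]
    · rcases v with v | v <;> simp [base, φ]
    · simp [base]
  refine ⟨fun l => ?_, fun a b => ?_⟩
  · have e := congrArg (base q) (hσe l)
    rw [map_sum, map_zero] at e
    refine Eq.trans (Finset.sum_congr rfl fun i _ => ?_) e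
    rw [map_mul]
    congr 1
    symm
    refine RingHom.congr_fun (f := (base q).comp φ.toRingHom) (g := RingHom.id _) ?_ (g l i)
    refine MvPolynomial.ringHom_ext (fun c => ?_) fun j => ?_ <;> simp [base, φ]
  · have hc := curve (R := 𝔹) (fun j => C (MvPolynomial.X (Sum.inl j) : 𝔸))
      (fun j => C (MvPolynomial.X (Sum.inr j) : 𝔸)) (fun j => C (MvPolynomial.C (q j))) X (σ a) (σ b)
      (δ σ a) (δ σ b) (fun j => τ σ j a) (fun j => τ σ j b) rfl rfl (fun _ => rfl) (fun _ => rfl)
      (cross g hone hσ hσd hσe (δ_spec g hσd hσe).1 (δ_spec g hσd hσe).2 a b)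
      (fun j => cross g hone hσ hσd hσe (τ_spec g hσd hσe j).1 (τ_spec g hσd hσe j).2 a b)
    rwa [h0, h0, h1, h1] at hc

/-! ### Removing common factors -/

/-- `P ↦ P + e λ Q`. -/
def shear (e : k) : Polynomial (MvPolynomial (V ⊕ V) k) →ₐ[k] Polynomial (MvPolynomial (V ⊕ V) k) :=
  Polynomial.aevalTower (MvPolynomial.aeval (Sum.elim
      (fun j => C (MvPolynomial.X (Sum.inl j) : 𝔸) + C (MvPolynomial.C e) * (X * C (MvPolynomial.X (Sum.inr j) : 𝔸)))
      fun j => C (MvPolynomial.X (Sum.inr j) : 𝔸))) X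

omit [Fintype I] [Fintype J] [DecidableEq I] [DecidableEq J] [Fintype V] [DecidableEq V] in
/-- If `a` divides `b c_i` for a family `c` without common nonunit factor, then `a ∣ b`. -/
theorem dvd_of_forall_dvd_mul {R : Type*} [CommRing R] [IsDomain R] [UniqueFactorizationMonoid R]
    {a : R} (ha : a ≠ 0) (c : I → R) (hc : ∀ x, (∀ i, x ∣ c i) → IsUnit x) :
    ∀ b, (∀ i, a ∣ b * c i) → a ∣ b := by
  induction a using UniqueFactorizationMonoid.induction_on_prime with
  | h₁ => exact absurd rfl ha
  | h₂ x hx => exact fun b _ => hx.dvd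
  | h₃ a p ha0 hp ih =>
    intro b h
    obtain ⟨i, hi⟩ : ∃ i, ¬ p ∣ c i := by
      by_contra hne
      push Not at hne
      exact hp.not_unit (hc p hne)
    obtain ⟨b', rfl⟩ := (hp.dvd_or_dvd ((dvd_mul_right p a).trans (h i))).resolve_right hi
    refine mul_dvd_mul_left p (ih ha0 b' fun j => ?_)
    have := h j
    rw [mul_assoc] at this
    exact (mul_dvd_mul_iff_left hp.ne_zero).1 this

omit [Fintype I] [Fintype J] [DecidableEq I] [DecidableEq J] [Fintype V] [DecidableEq V] in
theorem shear_inl (e : k) (v : V) : shear e (C (MvPolynomial.X (Sum.inl v) : 𝔸)) =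
    C (MvPolynomial.X (Sum.inl v) : 𝔸) + C (MvPolynomial.C e) * (X * C (MvPolynomial.X (Sum.inr v) : 𝔸)) :=
  (aevalTower_C _ _ _).trans (MvPolynomial.aeval_X _ _)

omit [Fintype I] [Fintype J] [DecidableEq I] [DecidableEq J] [Fintype V] [DecidableEq V] in
theorem shear_inr (e : k) (v : V) : shear e (C (MvPolynomial.X (Sum.inr v) : 𝔸)) = C (MvPolynomial.X (Sum.inr v) : 𝔸) :=
  (aevalTower_C _ _ _).trans (MvPolynomial.aeval_X _ _)

omit [Fintype I] [Fintype J] [DecidableEq I] [DecidableEq J] [Fintype V] [DecidableEq V] in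
theorem shear_X (e : k) : shear (V := V) e (X : 𝔹) = X := aevalTower_X _ _

omit [Fintype I] [Fintype J] [DecidableEq I] [DecidableEq J] [Fintype V] [DecidableEq V] in
theorem shear_CC (e c : k) : shear (V := V) e (C (MvPolynomial.C c : 𝔸)) = C (MvPolynomial.C c : 𝔸) :=
  (aevalTower_C _ _ _).trans (MvPolynomial.aeval_C _ _)

omit [Fintype I] [Fintype J] [DecidableEq I] [DecidableEq J] [Fintype V] [DecidableEq V] in
theorem shear_comp (e e' : k) (h : e + e' = 0) : (shear (V := V) e).comp (shear e') = AlgHom.id k 𝔹 := by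
  refine Polynomial.algHom_ext' (MvPolynomial.algHom_ext fun v => ?_) ?_
  · show shear e (shear e' (C (MvPolynomial.X v : 𝔸))) = C (MvPolynomial.X v : 𝔸)
    rcases v with v | v
    · have : (C (MvPolynomial.C e) : 𝔹) + C (MvPolynomial.C e') = 0 := by
        rw [← map_add, ← map_add, h, map_zero, map_zero]
      rw [shear_inl, map_add, map_mul, map_mul, shear_inl, shear_CC, shear_X, shear_inr]
      linear_combination (X * C (MvPolynomial.X (Sum.inr v) : 𝔸)) * this
    · rw [shear_inr, shear_inr]
  · show shear e (shear e' X) = X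
    rw [shear_X, shear_X]

omit [Fintype I] [Fintype J] [DecidableEq I] [DecidableEq J] [Fintype V] [DecidableEq V] in
theorem shear_one (f : MvPolynomial V k) : shear (1 : k) (C (MvPolynomial.rename Sum.inl f : 𝔸)) = φ f := by
  induction f using MvPolynomial.induction_on with
  | C a => rw [MvPolynomial.rename_C, shear_CC, φ, MvPolynomial.aeval_C]; rfl
  | add a b ha hb => rw [map_add, map_add, map_add, map_add, ha, hb]
  | mul_X a v ha =>
    rw [map_mul, map_mul, map_mul, map_mul, ha, MvPolynomial.rename_X, shear_inl, φ, MvPolynomial.aeval_X,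
      map_one, map_one, one_mul]

omit [Fintype I] [Fintype J] [DecidableEq I] [DecidableEq J] [Fintype V] [DecidableEq V] in
/-- Families without common factor stay so along a generic line. -/
theorem coprime_φ (r : I → MvPolynomial V k) (h0 : r ≠ 0) (hr : ∀ x, (∀ i, x ∣ r i) → IsUnit x)
    (z : Polynomial (MvPolynomial (V ⊕ V) k)) (hz : ∀ i, z ∣ φ (r i)) : IsUnit z := by
  let θ : 𝔹 ≃ₐ[k] 𝔹 := AlgEquiv.ofAlgHom (shear 1) (shear (-1)) (shear_comp _ _ (add_neg_cancel 1))
    (shear_comp _ _ (neg_add_cancel 1))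
  have hθ : ∀ f, θ (C (MvPolynomial.rename Sum.inl f : 𝔸)) = φ f := shear_one
  let z' := θ.symm z
  have hz' : ∀ i, z' ∣ C (MvPolynomial.rename Sum.inl (r i) : 𝔸) := fun i => by
    have := map_dvd θ.symm (hz i)
    rwa [← hθ, AlgEquiv.symm_apply_apply] at this
  obtain ⟨i₀, hi₀⟩ := Function.ne_iff.1 h0
  have hne : (MvPolynomial.rename Sum.inl (r i₀) : 𝔸) ≠ 0 := fun h =>
    hi₀ (MvPolynomial.rename_injective _ Sum.inl_injective (by simpa using h))
  have hdeg : z'.natDegree = 0 := by
    have := natDegree_le_of_dvd (hz' i₀) (C_ne_zero.2 hne)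
    simpa using this
  obtain ⟨a, ha⟩ : ∃ a, z' = C a := ⟨_, eq_C_of_natDegree_eq_zero hdeg⟩
  have hadvd : ∀ i, a ∣ (MvPolynomial.rename Sum.inl (r i) : 𝔸) := fun i => by
    have := hz' i
    rw [ha] at this
    simpa using (C_dvd_iff_dvd_coeff _ _).1 this 0
  let e : MvPolynomial (V ⊕ V) k ≃ₐ[k] MvPolynomial V (MvPolynomial V k) :=
    (MvPolynomial.renameEquiv k (Equiv.sumComm V V)).trans (MvPolynomial.sumAlgEquiv k V V)
  have he : ∀ f : MvPolynomial V k, e (MvPolynomial.rename Sum.inl f) = MvPolynomial.C f := fun f =>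
    DFunLike.congr_fun (MvPolynomial.algHom_ext (f := e.toAlgHom.comp (MvPolynomial.rename Sum.inl))
      (g := IsScalarTower.toAlgHom k (MvPolynomial V k) (MvPolynomial V (MvPolynomial V k))) fun j => by
        simp [e, IsScalarTower.coe_toAlgHom']) f
  have hea : ∀ i, e a ∣ MvPolynomial.C (r i) := fun i => he (r i) ▸ map_dvd e (hadvd i)
  obtain ⟨w, hw⟩ := hea i₀
  have hC : (MvPolynomial.C (r i₀) : MvPolynomial V (MvPolynomial V k)) ≠ 0 := by simpa using hi₀
  rw [hw] at hC
  have htd := congrArg MvPolynomial.totalDegree hw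
  rw [MvPolynomial.totalDegree_C, MvPolynomial.totalDegree_mul_of_isDomain (left_ne_zero_of_mul hC)
    (right_ne_zero_of_mul hC)] at htd
  have ha0 := MvPolynomial.totalDegree_eq_zero_iff_eq_C.1 (show (e a).totalDegree = 0 by omega)
  have hu : IsUnit (MvPolynomial.coeff 0 (e a)) := hr _ fun i => by
    have := map_dvd (MvPolynomial.constantCoeff) (hea i)
    simpa [MvPolynomial.constantCoeff_eq] using this
  have hua : IsUnit (e a) := by
    rw [ha0]
    exact hu.map MvPolynomial.C
  have hua' : IsUnit a := by simpa using hua.map e.symm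
  have : IsUnit z' := by
    rw [ha]
    exact hua'.map C
  simpa [z'] using this.map θ

omit [Fintype I] [Fintype J] [DecidableEq I] [DecidableEq J] [Fintype V] [DecidableEq V] in
theorem totalDegree_le_natDegree {f : MvPolynomial V k} (hf : f ≠ 0) :
    f.totalDegree ≤ (φ f).natDegree ∧ MvPolynomial.homogeneousComponent f.totalDegree f ≠ 0 := by
  classical
  obtain ⟨s, hs, hsd⟩ := Finset.exists_mem_eq_sup _ (MvPolynomial.support_nonempty.2 hf)
    fun s : V →₀ ℕ => s.sum fun _ e => e
  have htop : MvPolynomial.homogeneousComponent f.totalDegree f ≠ 0 := fun h => by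
    have := congrArg (MvPolynomial.coeff s) h
    rw [MvPolynomial.coeff_homogeneousComponent, MvPolynomial.coeff_zero,
      if_pos (show s.degree = f.totalDegree from hsd.symm)] at this
    exact MvPolynomial.mem_support_iff.1 hs this
  refine ⟨?_, htop⟩
  let Z : MvPolynomial (V ⊕ V) k →ₐ[k] MvPolynomial V k := MvPolynomial.aeval (Sum.elim (fun _ => 0) MvPolynomial.X)
  have hZ : ∀ (f : MvPolynomial V k) (b : ℕ),
      ((φ f).map Z.toRingHom).coeff b = MvPolynomial.homogeneousComponent b f := by
    intro f b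
    induction f using MvPolynomial.induction_on' with
    | monomial s c =>
      have e : (φ (MvPolynomial.monomial s c)).map Z.toRingHom =
          C (MvPolynomial.monomial s c : MvPolynomial V k) * X ^ s.degree := by
        rw [φ, MvPolynomial.aeval_monomial, MvPolynomial.monomial_eq, Finsupp.prod, Finsupp.prod,
          Polynomial.map_mul, Polynomial.map_prod, map_mul, map_prod, mul_assoc, Finsupp.degree_apply,
          ← Finset.prod_pow_eq_pow_sum, ← Finset.prod_mul_distrib]
        congr 1
        · rw [IsScalarTower.algebraMap_apply k 𝔸 𝔹, Polynomial.algebraMap_eq, Polynomial.map_C]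
          exact congrArg C (MvPolynomial.aeval_C _ _)
        · refine Finset.prod_congr rfl fun v _ => ?_
          rw [Polynomial.map_pow, Polynomial.map_add, Polynomial.map_mul, Polynomial.map_C, Polynomial.map_C,
            Polynomial.map_X, show Z.toRingHom (MvPolynomial.X (Sum.inl v)) = 0 from MvPolynomial.aeval_X _ _,
            show Z.toRingHom (MvPolynomial.X (Sum.inr v)) = MvPolynomial.X v from MvPolynomial.aeval_X _ _,
            map_zero, zero_add, mul_pow, map_pow, mul_comm]
      rw [e, coeff_C_mul, coeff_X_pow, MvPolynomial.homogeneousComponent_of_mem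
        (MvPolynomial.isHomogeneous_monomial c rfl : (MvPolynomial.monomial s c).IsHomogeneous s.degree)]
      split_ifs <;> simp
    | add p q hp hq => rw [map_add, Polynomial.map_add, coeff_add, hp, hq, map_add]
  refine le_natDegree_of_ne_zero fun h => htop ?_
  rw [← hZ, coeff_map, h, map_zero]

/-- Descent. -/
theorem exists_global [CharZero k] [Nontrivial V] {e : ℕ} (he : ∀ l i, (g l i).IsHomogeneous e) (d : ℕ)
    (hall : ∀ p q : V → k, LinearIndependent k ![p, q] → Sol g p q d ≠ ⊥)
    (p₀ q₀ : V → k) (hone : Module.finrank k (Sol g p₀ q₀ (d + 1)) ≤ 2) :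
    ∃ r : I → MvPolynomial V k, r ≠ 0 ∧ (∀ i, (r i).IsHomogeneous d) ∧ ∀ l, ∑ i, g l i * r i = 0 := by
  classical
  haveI : Infinite k := Infinite.of_injective _ Nat.cast_injective
  obtain ⟨σ, hσ, hσd, hσe⟩ := exists_generic g d hall
  obtain ⟨i₁, hi₁⟩ : ∃ i, (σ i).coeff 0 ≠ 0 := by
    by_contra hne
    push Not at hne
    choose σ' hσ' using fun i => X_dvd_iff.2 (hne i)
    have hd' : ∀ i, σ' i ≠ 0 → (σ' i).natDegree + 1 ≤ d := fun i h0 => by
      have h := hσd i
      rw [hσ' i, natDegree_mul X_ne_zero h0, natDegree_X] at h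
      omega
    have he' : ∀ l, ∑ i, φ (g l i) * σ' i = 0 := fun l => by
      refine mul_left_cancel₀ (X_ne_zero (R := MvPolynomial (V ⊕ V) k)) ?_
      rw [mul_zero, Finset.mul_sum]
      refine Eq.trans (Finset.sum_congr rfl fun i _ => ?_) (hσe l)
      rw [hσ' i]
      ring
    obtain ⟨i, hi⟩ := Function.ne_iff.1 hσ
    have hi' : σ' i ≠ 0 := fun h => hi (by rw [hσ' i, h, mul_zero, Pi.zero_apply])
    have hσ'0 : σ' ≠ 0 := Function.ne_iff.2 ⟨i, hi'⟩
    have hX : ∀ a b, (X * X * σ' a) * σ b = (X * X * σ' b) * σ a := fun a b => by rw [hσ' a, hσ' b]; ring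
    have hd1 : 1 ≤ d := le_trans (Nat.le_add_left 1 _) (hd' i hi')
    -- `σ'`, `X σ'`, `X² σ'` are three independent solutions of degree `≤ d + 1`
    let w : Fin 3 → I → Polynomial (MvPolynomial (V ⊕ V) k) := fun a i => X ^ (a : ℕ) * σ' i
    obtain ⟨c, hc0, hc⟩ := Generic.dependent_of_map (evp p₀ q₀) (mat (fun l i => φ (g l i)) (d + 1) (bd g (d + 1)))
      ((finrank_ker_le g p₀ q₀ (d + 1)).trans hone) (fun a x => (w a x.1).coeff x.2) (fun a => by
        rw [mulVec_eq_zero_iff _ (lt_bd g (d + 1)), pol_coeff (w a) fun i => ?_]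
        · intro l
          simp only [w, mul_left_comm _ (X ^ (a : ℕ)), ← Finset.mul_sum, he' l, mul_zero]
        · rcases eq_or_ne (σ' i) 0 with h | h
          · simp [w, h]
          · refine natDegree_mul_le.trans ?_
            have := hd' i h
            have := a.2
            simp only [natDegree_X_pow]
            omega) (by simp)
    have h3 : (C (c 0) + C (c 1) * X + C (c 2) * X ^ 2) * σ' i = 0 := by
      refine Polynomial.ext fun b => ?_
      rcases Nat.lt_or_ge b (d + 1 + 1) with hb | hb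
      · have := congrFun hc (i, ⟨b, hb⟩)
        simp only [Fin.sum_univ_three, Pi.add_apply, Pi.smul_apply, smul_eq_mul, Pi.zero_apply] at this
        simpa [w, add_mul, mul_assoc, coeff_C_mul] using this
      · rw [coeff_zero, coeff_eq_zero_of_natDegree_lt]
        refine lt_of_le_of_lt natDegree_mul_le ?_
        have hq : (C (c 0) + C (c 1) * X + C (c 2) * X ^ 2).natDegree ≤ 2 := by compute_degree
        have := hd' i hi'
        omega
    have h4 := (mul_eq_zero.1 h3).resolve_right hi'
    refine hc0 (funext fun a => ?_)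
    have := congrArg (fun f : Polynomial (MvPolynomial (V ⊕ V) k) => f.coeff (a : ℕ)) h4
    fin_cases a <;> simpa [coeff_C, coeff_X_pow] using this
  obtain ⟨x, hx⟩ : ∃ x, MvPolynomial.eval x ((σ i₁).coeff 0) ≠ 0 := by
    by_contra hne
    push Not at hne
    exact hi₁ (MvPolynomial.funext fun x => by simp [hne x])
  let q : V → k := x ∘ Sum.inr
  obtain ⟨hr₀, hcr₀⟩ := proportional g hone hσ hσd hσe q
  let Good : (I → MvPolynomial V k) → Prop := fun r =>
    r ≠ 0 ∧ (∀ l, ∑ i, g l i * r i = 0) ∧ ∀ a b, σ a * φ (r b) = σ b * φ (r a)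
  have hex : ∃ n r, Good r ∧ ∑ i, (r i).totalDegree = n := by
    refine ⟨_, fun i => base q (σ i), ⟨fun h => hx ?_, hr₀, hcr₀⟩, rfl⟩
    have := congrArg (MvPolynomial.eval (x ∘ Sum.inl)) (congrFun h i₁)
    rw [Pi.zero_apply, map_zero] at this
    rw [← this]
    symm
    refine RingHom.congr_fun (f := (MvPolynomial.eval (x ∘ Sum.inl)).comp
      (MvPolynomial.aeval (Sum.elim MvPolynomial.X (fun j => MvPolynomial.C (q j)))).toRingHom)
      (g := MvPolynomial.eval x) ?_ ((σ i₁).coeff 0)
    refine MvPolynomial.ringHom_ext (fun c => by simp) fun v => ?_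
    rcases v with v | v <;> simp [q]
  obtain ⟨r, ⟨hr, hre, hcr⟩, hn⟩ := Nat.find_spec hex
  have hprim : ∀ y, (∀ i, y ∣ r i) → IsUnit y := by
    intro y hy
    choose r' hr' using hy
    obtain ⟨i, hi⟩ := Function.ne_iff.1 hr
    have hy0 : y ≠ 0 := fun h => hi (by rw [hr' i, h, zero_mul, Pi.zero_apply])
    have hgood : Good r' := by
      refine ⟨fun h => hi ?_, fun l => mul_left_cancel₀ hy0 ?_, fun a b => mul_left_cancel₀
        (show φ y ≠ 0 from fun h => ?_) ?_⟩
      · simp [hr' i, h]
      · rw [mul_zero, Finset.mul_sum]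
        refine Eq.trans (Finset.sum_congr rfl fun j _ => ?_) (hre l)
        rw [hr' j]; ring
      · have := hcr i i
        have hinj : Function.Injective (φ : MvPolynomial V k → _) := by
          intro a b hab
          have h1 := congrArg (base q) hab
          have hid : ∀ f, base q (φ f) = f := fun f =>
            RingHom.congr_fun (f := (base q).comp φ.toRingHom) (g := RingHom.id _)
              (MvPolynomial.ringHom_ext (fun c => by simp [base, φ]) fun j => by simp [base, φ]) f
          rwa [hid, hid] at h1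
        exact hy0 (hinj (h.trans (map_zero φ).symm))
      · have := hcr a b
        rw [hr' a, hr' b, map_mul, map_mul] at this
        linear_combination this
    by_contra hu
    have hpos : 0 < y.totalDegree := by
      by_contra h0
      have h1 := MvPolynomial.totalDegree_eq_zero_iff_eq_C.1 (show y.totalDegree = 0 by omega)
      refine hu ?_
      rw [h1]
      exact (isUnit_iff_ne_zero.2 fun h2 => hy0 (by rw [h1, h2, map_zero])).map MvPolynomial.C
    refine Nat.find_min hex (m := ∑ i, (r' i).totalDegree) ?_ ⟨r', hgood, rfl⟩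
    rw [← hn]
    refine Finset.sum_lt_sum (fun j _ => ?_) ⟨i, Finset.mem_univ i, ?_⟩
    · rcases eq_or_ne (r' j) 0 with h | h
      · simp [h]
      · rw [hr' j, MvPolynomial.totalDegree_mul_of_isDomain hy0 h]; omega
    · have h : r' i ≠ 0 := fun h => hi (by rw [hr' i, h, mul_zero, Pi.zero_apply])
      rw [hr' i, MvPolynomial.totalDegree_mul_of_isDomain hy0 h]; omega
  -- `σ` is a multiple of `r`
  have hφ0 : ∀ f : MvPolynomial V k, φ f = 0 → f = 0 := fun f h => by
    have hid : base q (φ f) = f := RingHom.congr_fun (f := (base q).comp φ.toRingHom) (g := RingHom.id _)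
      (MvPolynomial.ringHom_ext (fun c => by simp [base, φ]) fun j => by simp [base, φ]) f
    rw [← hid, h, map_zero]
  obtain ⟨i₀, hi₀⟩ := Function.ne_iff.1 hr
  have hi₀' : φ (r i₀) ≠ 0 := fun h => hi₀ (hφ0 _ h)
  obtain ⟨h, hh⟩ := dvd_of_forall_dvd_mul hi₀' (fun i => φ (r i)) (coprime_φ r hr hprim) (σ i₀)
    fun i => ⟨σ i, by rw [← hcr i i₀, mul_comm]⟩
  have hσr : ∀ i, σ i = h * φ (r i) := fun i => by
    refine mul_left_cancel₀ hi₀' ?_
    linear_combination hcr i i₀ + φ (r i) * hh
  have hh0 : h ≠ 0 := by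
    rintro rfl
    exact hσ (funext fun i => by simp [hσr i])
  -- take the top degree
  obtain ⟨i₂, hmem, hD⟩ := Finset.exists_mem_eq_sup (Finset.univ.filter fun i => r i ≠ 0)
    ⟨i₀, by simpa using hi₀⟩ fun i => (r i).totalDegree
  let D := (Finset.univ.filter fun i => r i ≠ 0).sup fun i => (r i).totalDegree
  have hi₂ : r i₂ ≠ 0 := (Finset.mem_filter.1 hmem).2
  have hDd : D ≤ d := by
    have h1 := (totalDegree_le_natDegree hi₂).1
    have h2 := hσd i₂
    rw [hσr i₂, natDegree_mul hh0 fun h3 => hi₂ (hφ0 _ h3)] at h2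
    rw [show D = (r i₂).totalDegree from hD]
    omega
  obtain ⟨v⟩ : Nonempty V := inferInstance
  refine ⟨fun i => MvPolynomial.X v ^ (d - D) * MvPolynomial.homogeneousComponent D (r i), fun h1 => ?_,
    fun i => ?_, fun l => ?_⟩
  · have := (mul_eq_zero.1 (congrFun h1 i₂)).resolve_left (pow_ne_zero _ (MvPolynomial.X_ne_zero v))
    rw [show D = (r i₂).totalDegree from hD] at this
    exact (totalDegree_le_natDegree hi₂).2 this
  · have := (MvPolynomial.isHomogeneous_X_pow (R := k) v (d - D)).mul
      (MvPolynomial.homogeneousComponent_isHomogeneous D (r i))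
    rwa [Nat.sub_add_cancel hDd] at this
  · have h1 := congrArg (MvPolynomial.homogeneousComponent (e + D)) (hre l)
    rw [map_sum, map_zero] at h1
    simp only [mul_left_comm _ (MvPolynomial.X v ^ (d - D)), ← Finset.mul_sum]
    refine mul_eq_zero_of_right _ (Eq.trans (Finset.sum_congr rfl fun i _ => ?_) h1)
    have hcomp : ∀ f : MvPolynomial V k, MvPolynomial.homogeneousComponent (e + D) (g l i * f) =
        g l i * MvPolynomial.homogeneousComponent D f := fun f => by
      conv_lhs => rw [← MvPolynomial.sum_homogeneousComponent f, Finset.mul_sum, map_sum]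
      have hm : ∀ j, MvPolynomial.homogeneousComponent (e + D) (g l i * MvPolynomial.homogeneousComponent j f) =
          if j = D then g l i * MvPolynomial.homogeneousComponent D f else 0 := fun j => by
        rw [MvPolynomial.homogeneousComponent_of_mem ((he l i).mul (MvPolynomial.homogeneousComponent_isHomogeneous j f))]
        split_ifs with a b b
        · rw [b]
        · omega
        · omega
        · rfl
      simp only [hm, Finset.sum_ite_eq']
      split_ifs with hj
      · rfl
      · rw [MvPolynomial.homogeneousComponent_eq_zero _ _ (by simp at hj; omega), mul_zero]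
    exact (hcomp (r i)).symm

end Groth.Agent.Lib.PnLines.Descent
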