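import Groth.Agent.Lib.ReesReg.Forms
import Groth.Agent.Lib.ProperFin.TwistBC
import Groth.Agent.Lib.ProjCoh.Coherent
import Groth.Agent.Lib.ProjCoh.SerreDual

/-!
# Maps between twists of `P^n` are forms, compatibly with composition and linear pullback
-/

set_option autoImplicit false
set_option linter.all false
set_option maxHeartbeats 1000000
set_option backward.isDefEq.respectTransparency.types false

universe u

open CategoryTheory CategoryTheory.Limits AlgebraicGeometry TopologicalSpace Opposite MvPolynomial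

noncomputable section

namespace Groth.Agent.Lib.PnLines.Dict

open Groth.Agent.Lib Groth.Agent.Lib.ProjCoh.Coherent Groth.Agent.Lib.ProjCoh.Sections
  Groth.Agent.Lib.ProjTilde Groth.Agent.Lib.ProjTilde.Basic Groth.Agent.Lib.ProperFin.TwistBC
  Groth.Agent.Lib.TensorMod.Basic Groth.Agent.Lib.TensorMod.Pullback

variable {k : Type u} [Field k] {n : ℕ}

/-- The value of a section. -/
abbrev val' {a : ℤ} {U : (CohB1.ProjSpace n k).Opens} (σ : Γ(tw n k a, U)) (x : U) :
    Twist.Loc (CohB1.polyGrading n k) x.1 :=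
  ((show Twist.sectN (𝒜 := CohB1.polyGrading n k) a (op U) from σ).1 x : Twist.twistAt (CohB1.polyGrading n k) a x.1)

theorem sec_ext {a : ℤ} {U : (CohB1.ProjSpace n k).Opens} {σ τ : Γ(tw n k a, U)}
    (h : ∀ x : U, val' σ x = val' τ x) : σ = τ :=
  Subtype.ext (funext fun x => Subtype.ext (h x))

/-- A section of `A(a)~` as a section of `O(a)`. -/
def ofTilde {a : ℤ} {U : (CohB1.ProjSpace n k).Opens} (τ : Sect n k a U) : Γ(tw n k a, U) :=
  (show Twist.sectN (𝒜 := CohB1.polyGrading n k) a (op U) from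
    ⟨fun x => ⟨Frac.val τ x, mem_twistAt_of_mem (τ.1 x).2⟩, fun x => by
      obtain ⟨j, s, c, hs, hc, hsx, hv⟩ := Frac.exists_local_rep τ x
      obtain ⟨i, hi, hij⟩ := hc.exists_mem
      exact ⟨ProjectiveSpectrum.basicOpen _ s ⊓ U, ⟨hsx, x.2⟩, Opens.infLERight _ _, i, j, ⟨c, hi⟩, ⟨s, hs⟩,
        fun y => y.2.1, hij, fun y => hv ⟨y.1, y.2.2⟩ y.2.1⟩⟩)

/-- Multiplication by a form. -/
def mulG {a b : ℤ} {e : ℕ} (h : a + (e : ℤ) = b) (F : CohB1.polyGrading n k e) : tw n k a ⟶ tw n k b :=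
  ProjTilde.Hom.homMk (M := tw n k a) (N := tw n k b)
    (fun U => AddMonoidHom.mk' (fun σ => ofTilde (ProjCoh.Mul.prodTo h (W := U) (twistToTilde σ)
        (GrTilde.res (CohB1.polyGrading n k) (CohB1.polyGrading n k) (e : ℤ) (homOfLE le_top).op
          (twistToTilde (Twist.globalOf (CohB1.polyGrading n k) F)))))
      fun σ σ' => sec_ext fun x => mul_add (Localization.mk (F : S n k) 1) (val' σ x) (val' σ' x))
    (fun U r σ => sec_ext fun x => by
      refine Eq.trans ?_ (Twist.coe_smul_val b x.1 _ _).symm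
      exact (congrArg (fun z => Localization.mk (F : S n k) 1 * z) (Twist.coe_smul_val a x.1 _ _)).trans
        (mul_left_comm _ _ _))
    (fun U V hVU σ => sec_ext fun x => rfl)

theorem val_mulG {a b : ℤ} {e : ℕ} (h : a + (e : ℤ) = b) (F : CohB1.polyGrading n k e)
    (U : (CohB1.ProjSpace n k).Opens) (σ : Γ(tw n k a, U)) (x : U) :
    val' ((mulG h F).app U σ) x = Localization.mk (F : S n k) 1 * val' σ x := rfl

theorem hom_ext {a b : ℤ} {f g : tw n k a ⟶ tw n k b}
    (h : ∀ (U : (CohB1.ProjSpace n k).Opens) (σ : Γ(tw n k a, U)) (x : U), val' (f.app U σ) x = val' (g.app U σ) x) :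
    f = g := by
  ext U σ
  exact sec_ext (h U σ)

theorem mulG_add {a b : ℤ} {e : ℕ} (h : a + (e : ℤ) = b) (F G : CohB1.polyGrading n k e) :
    mulG h (F + G) = mulG h F + mulG h G := hom_ext fun U σ x => by
  show val' ((mulG h (F + G)).app U σ) x = val' ((mulG h F).app U σ) x + val' ((mulG h G).app U σ) x
  simp only [val_mulG, ← add_mul, Localization.add_mk_self, Submodule.coe_add]

theorem mulG_zero {a b : ℤ} {e : ℕ} (h : a + (e : ℤ) = b) :
    mulG h (0 : CohB1.polyGrading n k e) = 0 := hom_ext fun U σ x => by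
  show val' ((mulG h (0 : CohB1.polyGrading n k e)).app U σ) x = 0
  rw [val_mulG, ZeroMemClass.coe_zero, Localization.mk_zero, zero_mul]

theorem mulG_sum {a b : ℤ} {e : ℕ} (h : a + (e : ℤ) = b) {ι : Type*} (s : Finset ι) (F : ι → CohB1.polyGrading n k e) :
    mulG h (∑ i ∈ s, F i) = ∑ i ∈ s, mulG h (F i) :=
  map_sum (AddMonoidHom.mk' (mulG h) (mulG_add h)) F s

theorem mulG_comp {a b c : ℤ} {e f : ℕ} (h : a + (e : ℤ) = b) (h' : b + (f : ℤ) = c) (h'' : a + ((e + f : ℕ) : ℤ) = c)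
    (F : CohB1.polyGrading n k e) (G : CohB1.polyGrading n k f) :
    mulG h F ≫ mulG h' G = mulG h'' (⟨(F : S n k) * (G : S n k), SetLike.mul_mem_graded F.2 G.2⟩ : CohB1.polyGrading n k (e + f)) := hom_ext fun U σ x => by
  show val' ((mulG h' G).app U ((mulG h F).app U σ)) x = _
  rw [val_mulG, val_mulG, val_mulG, ← mul_assoc, Localization.mk_mul, mul_one, mul_comm (G : S n k)]

/-- The generic point. -/
def genPt (hn : 1 ≤ n) : ProjectiveSpectrum (CohB1.polyGrading n k) :=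
  ⟨⊥, Ideal.isPrime_bot, fun hle => X_ne_zero (R := k) (0 : Fin (n + 1))
    ((Submodule.mem_bot _).1 (hle (HomogeneousIdeal.mem_irrelevant_of_mem _ one_pos (isHomogeneous_X k 0))))⟩

theorem eq_zero_of_mulG (hn : 1 ≤ n) {a b : ℤ} {e : ℕ} (h : a + (e : ℤ) = b) (F : CohB1.polyGrading n k e)
    (hF : mulG h F = 0) : F = 0 := by
  let p := genPt (k := k) hn
  let c : S n k := X 0 ^ a.toNat
  let d : S n k := X 0 ^ (-a).toNat
  have hd : d ∈ CohB1.polyGrading n k (-a).toNat := isHomogeneous_X_pow 0 _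
  let U : (CohB1.ProjSpace n k).Opens := Proj.basicOpen (CohB1.polyGrading n k) d
  have hp : p ∈ Proj.basicOpen (CohB1.polyGrading n k) d := fun hh =>
    pow_ne_zero _ (X_ne_zero (0 : Fin (n + 1))) ((Submodule.mem_bot _).1 hh)
  let σ : Γ(tw n k a, U) := ofTilde (ProjTilde.Frac.fracSec _ hd (a := c) (ProjTilde.Frac.Deg.of_mem (isHomogeneous_X_pow 0 a.toNat)
      (Or.inl (by omega))) le_rfl)
  have h0 : val' ((mulG h F).app U σ) ⟨p, hp⟩ = 0 := by rw [hF]; rfl
  have hv : val' σ ⟨p, hp⟩ = Localization.mk c ⟨d, hp⟩ := rfl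
  rw [val_mulG, hv, Localization.mk_mul, Localization.mk_eq_mk'] at h0
  obtain ⟨w, hw⟩ := (IsLocalization.mk'_eq_zero_iff _ _).1 h0
  rcases mul_eq_zero.1 hw with hw | hw
  · exact absurd ((Submodule.mem_bot _).2 hw) w.2
  · exact Subtype.ext ((mul_eq_zero.1 hw).resolve_right (pow_ne_zero _ (X_ne_zero _)))

theorem exists_mulG (hn : 1 ≤ n) {a b : ℤ} {e : ℕ} (h : a + (e : ℤ) = b) (f : tw n k a ⟶ tw n k b) :
    ∃ F, mulG h F = f := by
  obtain ⟨g, hg, hf⟩ := ProjCoh.Mul.exists_eq_mul ((twIso a).inv ≫ f ≫ (twIso b).hom)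
  obtain ⟨G, hG, hGg⟩ := ReesReg.Forms.exists_form hn g hg
  have hGe : G ∈ CohB1.polyGrading n k e := by
    rcases ProjTildeExact.PolyReg.mem_std_cases hG with ⟨i, hi, hm⟩ | h0
    · obtain rfl : i = e := by omega
      exact hm
    · rw [h0]; exact zero_mem _
  refine ⟨⟨G, hGe⟩, ((twIso b).cancel_iso_hom_right _ _).1 ?_⟩
  rw [show f ≫ (twIso b).hom = (twIso a).hom ≫ ProjCoh.Mul.mul a b g hg by rw [← hf]; simp]
  ext U σ
  exact Frac.sect_ext (U := U) fun x => (ReesReg.Forms.val_mul g hg G hG hGg U (twistToTilde σ) x).symm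

theorem hom_eq_zero (hn : 0 < n) {a b : ℤ} (h : b < a) (f : tw n k a ⟶ tw n k b) : f = 0 := by
  haveI := ProjCoh.SerreDual.subsingleton_hom_neg (R := k) hn h
  exact ((twIso a).cancel_iso_inv_left _ _).1 (((twIso b).cancel_iso_hom_right _ _).1 (Subsingleton.elim _ _))

variable {m : ℕ} (φ : CohB1.polyGrading n k →+*ᵍ CohB1.polyGrading m k)
  (hφ : HomogeneousIdeal.irrelevant (CohB1.polyGrading m k) ≤ (HomogeneousIdeal.irrelevant (CohB1.polyGrading n k)).map φ)

/-- Pullback of multiplication by a form. -/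
theorem comparison_mulG {a b : ℤ} {e : ℕ} (h : a + (e : ℤ) = b) (F : CohB1.polyGrading n k e) :
    (pb (Proj.map φ hφ)).map (mulG h F) ≫ comparison φ hφ b =
      comparison φ hφ a ≫ mulG h (⟨φ F, φ.map_mem F.2⟩ : CohB1.polyGrading m k e) := by
  apply ((pbAdj (Proj.map φ hφ)).homEquiv _ _).injective
  rw [Adjunction.homEquiv_naturality_left, Adjunction.homEquiv_naturality_right]
  simp only [comparison, Equiv.apply_symm_apply]
  ext U σ
  refine sec_ext (n := m) fun y => ?_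
  show locMap φ hφ y.1 (val' ((mulG h F).app U σ) ⟨ProjectiveSpectrum.comap φ hφ y.1, y.2⟩) =
    val' ((mulG h (⟨φ F, φ.map_mem F.2⟩ : CohB1.polyGrading m k e)).app ((Proj.map φ hφ) ⁻¹ᵁ U) _) y
  rw [val_mulG, val_mulG, map_mul]
  congr 1
  refine (locMap_mk φ hφ y.1 _ 1 ?_).trans ?_
  change Localization.mk _ _ = Localization.mk _ _
  simp only [map_one]
  rfl

end Groth.Agent.Lib.PnLines.Dict
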