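import Groth.Agent.Lib.PnLines.Restrict

/-!
# Solutions on a line and splitting types
-/

set_option autoImplicit false
set_option linter.all false
set_option maxHeartbeats 1000000
set_option backward.isDefEq.respectTransparency.types false

universe u

open CategoryTheory CategoryTheory.Limits AlgebraicGeometry MvPolynomial

noncomputable section

namespace Groth.Agent.Lib.PnLines.Main

open Groth.Agent.Lib Groth.Agent.Lib.ProjCoh.Coherent Groth.Agent.Lib.ProjCoh.Sections
  Groth.Agent.Lib.PnLines.Dict Groth.Agent.Lib.PnLines.Line Groth.Agent.Lib.PnLines.Restrict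
  Groth.Agent.Lib.EssDimM0.LinePts Groth.Agent.Lib.TensorMod.Basic

variable {k : Type u} [Field k]

variable {n : ℕ}

variable {W : (CohB1.ProjSpace n k).Modules} (P : Pres W) (p q : Fin (n + 1) → k) (hpq : LinearIndependent k ![p, q])

theorem nonneg_of_hom {a₀ : ℤ} (h : (Scheme.Modules.pullback (line p q hpq)).obj W ⟶ tw 1 k a₀) (hh : h ≠ 0) :
    P.a₀ ≤ a₀ := by
  by_contra hlt
  haveI := isIso_cmp p q hpq P.a₀
  refine hh (pb_ext P p q hpq fun i => ?_)
  have h1 := Dict.hom_eq_zero zero_lt_one (not_le.1 hlt)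
    (inv (cmp p q hpq P.a₀) ≫ (Scheme.Modules.pullback (line p q hpq)).map (P.π i) ≫ h)
  rw [comp_zero, ← cancel_epi (inv (cmp p q hpq P.a₀)), comp_zero]
  exact h1

theorem sol_ne_bot {a₀ : ℤ} {d : ℕ} (hd : P.a₀ + (d : ℤ) = a₀)
    (h : (Scheme.Modules.pullback (line p q hpq)).obj W ⟶ tw 1 k a₀) (hh : h ≠ 0) :
    Descent.Sol (fun t i => (P.g t i : MvPolynomial (Fin (n + 1)) k)) p q d ≠ ⊥ := by
  obtain ⟨r, hr, hs⟩ := exists_sol P p q hpq hd h
  refine fun hbot => hh (pb_ext P p q hpq fun i => ?_)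
  rw [hbot, Submodule.mem_bot] at hs
  have h0 : r i = 0 := Subtype.ext (eq_zero_of_dehom (r i).2 (congrFun hs i))
  rw [← hr i, h0, mulG_zero, comp_zero, comp_zero]

theorem finrank_sol_le {a₀ β : ℤ} {d : ℕ} (hd : P.a₀ + (d : ℤ) = a₀)
    (e : (Scheme.Modules.pullback (line p q hpq)).obj W ≅ tw 1 k a₀ ⊞ tw 1 k β) (hβ : a₀ + 1 < β) :
    Module.finrank k (Descent.Sol (fun t i => (P.g t i : MvPolynomial (Fin (n + 1)) k)) p q (d + 1)) ≤ 2 := by
  classical
  let h₀ : (Scheme.Modules.pullback (line p q hpq)).obj W ⟶ tw 1 k a₀ := e.hom ≫ biprod.fst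
  obtain ⟨r₀, hr₀, -⟩ := exists_sol P p q hpq hd h₀
  let w : Fin P.b → Polynomial k := fun i => dehom (r₀ i : S 1 k)
  let w' : Fin P.b → Polynomial k := fun i => Polynomial.X * w i
  have hd1 : P.a₀ + ((d + 1 : ℕ) : ℤ) = a₀ + 1 := by push_cast; omega
  have h11 : a₀ + ((1 : ℕ) : ℤ) = a₀ + 1 := by simp
  have hle : Descent.Sol (fun t i => (P.g t i : MvPolynomial (Fin (n + 1)) k)) p q (d + 1) ≤
      Submodule.span k (↑({w, w'} : Finset _) : Set (Fin P.b → Polynomial k)) := by
    intro s hs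
    obtain ⟨h, hh⟩ := exists_hom P p q hpq hd1 hs
    obtain ⟨l, hl⟩ := exists_mulG le_rfl h11 (biprod.inl ≫ e.inv ≫ h)
    have hz := Dict.hom_eq_zero zero_lt_one hβ (biprod.inr ≫ e.inv ≫ h)
    have hfac : h = h₀ ≫ mulG h11 l := by
      rw [hl, ← e.cancel_iso_inv_left]
      refine biprod.hom_ext' _ _ (by simp [h₀]) ?_
      rw [hz]
      simp [h₀]
    have hsi : ∀ i, s i = w i * dehom (l : S 1 k) := fun i => by
      have h1 := hh i
      rw [hfac, ← Category.assoc, ← hr₀ i, Category.assoc, mulG_comp hd h11 hd1] at h1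
      haveI := isIso_cmp p q hpq P.a₀
      have h2 := (cancel_epi (cmp p q hpq P.a₀)).1 h1
      rw [← sub_eq_zero] at h2
      have h3 : mulG hd1 ((⟨(r₀ i : S 1 k) * (l : S 1 k), SetLike.mul_mem_graded (r₀ i).2 l.2⟩ :
          CohB1.polyGrading 1 k (d + 1)) - ⟨homog (d + 1) (s i), homog_mem _ _⟩) = 0 :=
        ((AddMonoidHom.mk' (mulG hd1) (mulG_add hd1)).map_sub _ _).trans h2
      have h4 := congrArg Subtype.val (sub_eq_zero.1 (eq_zero_of_mulG le_rfl hd1 _ h3))
      have h5 := congrArg dehom h4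
      rw [map_mul, dehom_homog _ (hs.1 i)] at h5
      exact h5.symm
    have hl2 := Polynomial.eq_X_add_C_of_natDegree_le_one (natDegree_dehom l.2)
    have hsw : s = (dehom (l : S 1 k)).coeff 0 • w + (dehom (l : S 1 k)).coeff 1 • w' := funext fun i => by
      rw [hsi i]
      conv_lhs => rw [hl2]
      simp only [Pi.add_apply, Pi.smul_apply, w', Polynomial.smul_eq_C_mul]
      ring
    rw [hsw]
    exact Submodule.add_mem _ (Submodule.smul_mem _ _ (Submodule.subset_span (by simp)))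
      (Submodule.smul_mem _ _ (Submodule.subset_span (by simp)))
  exact (Submodule.finrank_mono hle).trans ((finrank_span_finset_le_card _).trans Finset.card_le_two)


end Groth.Agent.Lib.PnLines.Main
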