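import Mathlib.LinearAlgebra.Matrix.Nondegenerate
import Mathlib.LinearAlgebra.Matrix.ToLin
import Mathlib.LinearAlgebra.Dimension.StrongRankCondition
import Mathlib.LinearAlgebra.Dimension.Finrank
import Mathlib.LinearAlgebra.FreeModule.Finite.Matrix
import Mathlib.RingTheory.Localization.Integer
import Mathlib.RingTheory.Localization.FractionRing
import Mathlib.Algebra.MvPolynomial.Funext
import Mathlib.Data.Matrix.ColumnRowPartitioned
import Mathlib.LinearAlgebra.Basis.VectorSpace
import Mathlib.LinearAlgebra.FreeModule.PID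

/-!
# Linear systems with polynomial coefficients and their specialisations
-/

set_option autoImplicit false

open Matrix

namespace Groth.Agent.Lib.PnLines.Generic

variable {A k : Type*} [CommRing A] [IsDomain A] [Field k] [Algebra k A]
variable {I J : Type*} [Fintype I] [DecidableEq I] [Fintype J] [DecidableEq J]

/-- Injectivity at one point gives injectivity. -/
theorem eq_zero_of_map (ev : A →ₐ[k] k) (M : Matrix J I A)
    (h : ∀ v, (M.map ev).mulVec v = 0 → v = 0) {v : I → A} (hv : M.mulVec v = 0) : v = 0 := by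
  obtain ⟨L, hL⟩ := LinearMap.exists_leftInverse_of_injective (Matrix.mulVecLin (M.map ev))
    (LinearMap.ker_eq_bot'.2 h)
  have h0 : LinearMap.toMatrix' L * M.map ev = 1 := by
    have := congrArg LinearMap.toMatrix' hL
    rw [LinearMap.toMatrix'_comp, LinearMap.toMatrix'_id, ← Matrix.toLin'_apply', LinearMap.toMatrix'_toLin'] at this
    exact this
  let N : Matrix I I A := (LinearMap.toMatrix' L).map (algebraMap k A) * M
  have hN : N.map ev = 1 := by
    rw [Matrix.map_mul, Matrix.map_map]
    convert h0 using 2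
    ext i j
    simp [AlgHom.commutes]
  refine Matrix.eq_zero_of_mulVec_eq_zero (M := N) (fun hd => ?_) ?_
  · have := congrArg ev hd
    rw [map_zero, AlgHom.map_det, AlgHom.mapMatrix_apply, hN, Matrix.det_one] at this
    exact one_ne_zero this
  · rw [← Matrix.mulVec_mulVec, hv, Matrix.mulVec_zero]

/-- If the kernel at one point has dimension at most `r`, any `r + 1` solutions are dependent. -/
theorem dependent_of_map (ev : A →ₐ[k] k) (M : Matrix J I A) {r : ℕ}
    (hr : Module.finrank k (LinearMap.ker (Matrix.mulVecLin (M.map ev))) ≤ r)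
    {ι : Type*} [Fintype ι] (v : ι → I → A) (hv : ∀ l, M.mulVec (v l) = 0) (hι : r < Fintype.card ι) :
    ∃ c : ι → A, c ≠ 0 ∧ ∑ l, c l • v l = 0 := by
  classical
  let K := LinearMap.ker (Matrix.mulVecLin (M.map ev))
  let B := Module.finBasis k K
  let f : K →ₗ[k] (Fin r → k) :=
    (LinearMap.pi fun a : Fin r => if h : (a : ℕ) < Module.finrank k K then B.coord ⟨a, h⟩ else 0)
  obtain ⟨G, hG⟩ := f.exists_extend
  let Gm : Matrix (Fin r) I A := (LinearMap.toMatrix' G).map (algebraMap k A)
  have hinj : ∀ w, ((Matrix.fromRows M Gm).map ev).mulVec w = 0 → w = 0 := by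
    intro w hw
    have e : (Matrix.fromRows M Gm).map ev = Matrix.fromRows (M.map ev) (LinearMap.toMatrix' G) := by
      ext (i | i) j <;> simp [Gm, AlgHom.commutes]
    rw [e, Matrix.fromRows_mulVec] at hw
    have h1 : (M.map ev).mulVec w = 0 := funext fun j => congrFun hw (Sum.inl j)
    have h2 : G w = 0 := by
      rw [← LinearMap.toMatrix'_mulVec]
      exact funext fun j => congrFun hw (Sum.inr j)
    have h3 : f ⟨w, h1⟩ = 0 := by
      rw [← hG]
      exact h2
    have h4 : (⟨w, h1⟩ : K) = 0 := B.repr.injective (Finsupp.ext fun a => by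
      have := congrFun h3 ⟨a, lt_of_lt_of_le a.2 hr⟩
      simpa [f, LinearMap.pi_apply] using this)
    exact congrArg Subtype.val h4
  have hdep : ¬ LinearIndependent A fun l => Gm.mulVec (v l) := fun h => by
    have := h.fintype_card_le_finrank
    rw [Module.finrank_fin_fun] at this
    omega
  obtain ⟨c, hc, l₀, hl₀⟩ := Fintype.not_linearIndependent_iff.1 hdep
  refine ⟨c, fun h => hl₀ (congrFun h l₀), eq_zero_of_map ev _ hinj ?_⟩
  rw [Matrix.fromRows_mulVec]
  have h1 : M.mulVec (∑ l, c l • v l) = 0 := by
    simp [Matrix.mulVec_sum, Matrix.mulVec_smul, hv]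
  have h2 : Gm.mulVec (∑ l, c l • v l) = 0 := by
    simpa [Matrix.mulVec_sum, Matrix.mulVec_smul] using hc
  ext (j | j)
  · exact congrFun h1 j
  · exact congrFun h2 j

omit [IsDomain A] [Algebra k A] in
/-- Solutions at all points off a hypersurface give a solution. -/
theorem exists_ker [Infinite k] {σ : Type*} (M : Matrix J I (MvPolynomial σ k)) {Δ : MvPolynomial σ k}
    (hΔ : Δ ≠ 0)
    (h : ∀ p : σ → k, MvPolynomial.eval p Δ ≠ 0 → ∃ v, v ≠ 0 ∧ (M.map (MvPolynomial.eval p)).mulVec v = 0) :
    ∃ v, v ≠ 0 ∧ M.mulVec v = 0 := by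
  classical
  by_contra hne
  push Not at hne
  let S := MvPolynomial σ k
  let F := FractionRing S
  have hinj : ∀ w : I → F, (M.map (algebraMap S F)).mulVec w = 0 → w = 0 := by
    intro w hw
    obtain ⟨δ, hδ⟩ := IsLocalization.exist_integer_multiples (nonZeroDivisors S) Finset.univ w
    choose u hu using fun i => hδ i (Finset.mem_univ i)
    have hu0 : M.mulVec u = 0 := by
      funext j
      apply IsFractionRing.injective S F
      rw [RingHom.map_mulVec, show algebraMap S F ∘ u = (δ : S) • w from funext hu, Matrix.mulVec_smul, hw,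
        smul_zero, Pi.zero_apply, Pi.zero_apply, map_zero]
    have : u = 0 := by
      by_contra hu'
      exact hne u hu' hu0
    funext i
    have h1 := hu i
    rw [this, Pi.zero_apply, map_zero, Algebra.smul_def] at h1
    exact (mul_eq_zero.1 h1.symm).resolve_left (IsFractionRing.to_map_ne_zero_of_mem_nonZeroDivisors δ.2)
  obtain ⟨L, hL⟩ := LinearMap.exists_leftInverse_of_injective (Matrix.mulVecLin (M.map (algebraMap S F)))
    (LinearMap.ker_eq_bot'.2 hinj)
  have h0 : LinearMap.toMatrix' L * M.map (algebraMap S F) = 1 := by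
    have := congrArg LinearMap.toMatrix' hL
    rw [LinearMap.toMatrix'_comp, LinearMap.toMatrix'_id, ← Matrix.toLin'_apply', LinearMap.toMatrix'_toLin'] at this
    exact this
  obtain ⟨δ, hδ⟩ := IsLocalization.exist_integer_multiples (nonZeroDivisors S) Finset.univ
    fun a : I × J => LinearMap.toMatrix' L a.1 a.2
  choose u hu using fun a => hδ a (Finset.mem_univ a)
  let N : Matrix I J S := Matrix.of fun i j => u (i, j)
  have hN : N * M = (δ : S) • (1 : Matrix I I S) := by
    refine Matrix.map_injective (IsFractionRing.injective S F) ?_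
    dsimp only
    rw [Matrix.map_mul,
      show N.map (algebraMap S F) = (δ : S) • LinearMap.toMatrix' L from Matrix.ext fun i j => hu (i, j),
      Matrix.smul_mul, h0]
    ext i j
    rw [Matrix.map_apply, Matrix.smul_apply, Matrix.smul_apply, Matrix.one_apply, Matrix.one_apply,
      Algebra.smul_def, smul_eq_mul]
    split_ifs <;> simp
  obtain ⟨p, hp⟩ : ∃ p, MvPolynomial.eval p ((δ : S) * Δ) ≠ 0 := by
    by_contra hp
    push Not at hp
    exact mul_ne_zero (nonZeroDivisors.coe_ne_zero δ) hΔ (MvPolynomial.funext fun x => by simp [hp x])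
  rw [map_mul] at hp
  obtain ⟨v, hv0, hv⟩ := h p (right_ne_zero_of_mul hp)
  have h1 : ((N * M).map (MvPolynomial.eval p)).mulVec v = 0 := by
    rw [Matrix.map_mul, ← Matrix.mulVec_mulVec, hv, Matrix.mulVec_zero]
  refine hv0 (funext fun i => ?_)
  have h2 : ((N * M).map (MvPolynomial.eval p)).mulVec v = MvPolynomial.eval p (δ : S) • v := by
    rw [hN, show ((δ : S) • (1 : Matrix I I S)).map (MvPolynomial.eval p) = MvPolynomial.eval p (δ : S) • 1 by
      ext a b; by_cases hab : a = b <;> simp [hab], Matrix.smul_mulVec, Matrix.one_mulVec]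
  rw [h2] at h1
  exact (smul_eq_zero.1 (congrFun h1 i)).resolve_left (left_ne_zero_of_mul hp)

end Groth.Agent.Lib.PnLines.Generic
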