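import Groth.Agent.Lib.PnStable.Dual

/-!
# Wedging with a nonzero section of a rank two bundle
-/

set_option autoImplicit false
set_option linter.all false
set_option maxHeartbeats 1000000

universe u

open CategoryTheory CategoryTheory.Limits AlgebraicGeometry Opposite TopologicalSpace
open Groth.Agent.Lib
open Groth.Agent.Lib.TensorMod.Dual (rs rf rs_rs rs_smul)
open Groth.Agent.Lib.Modules.TensorSec (section_ext rs_zero app_rs)
open Groth.Agent.Lib.Modules

noncomputable section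

namespace Groth.Agent.Lib.PnLines.Wedge

variable {X : Scheme.{u}}

set_option maxHeartbeats 800000 in
theorem exists_wedge [IsIntegral X] {F L : X.Modules} (hF : FlatMod.IsFinLocFreeOfRank 2 F)
    (hL : ExtPow.IsExtPow 2 F L) (s : Γ(F, ⊤)) (hs : s ≠ 0) : ∃ w : F ⟶ L, w ≠ 0 := by
  obtain ⟨φ, hφ⟩ := hL
  let T : ∀ U : X.affineOpens, Γ(F, U.1) →ₗ[Γ(X, U.1)] Γ(L, U.1) := fun U =>
    (φ U).symm.toLinearMap.comp
      ((exteriorPower.ιMulti Γ(X, U.1) 2 (M := Γ(F, U.1))).toMultilinearMap.toLinearMap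
        ![rs F (le_top : U.1 ≤ ⊤) s, 0] 1)
  have hupd : ∀ (U : X.affineOpens) (f : Γ(F, U.1)),
      Function.update ![rs F (le_top : U.1 ≤ ⊤) s, 0] 1 f = ![rs F (le_top : U.1 ≤ ⊤) s, f] := fun U f => by
    funext j
    fin_cases j <;> simp
  have hT : ∀ (U : X.affineOpens) (f : Γ(F, U.1)),
      T U f = (φ U).symm (exteriorPower.ιMulti _ 2 ![rs F (le_top : U.1 ≤ ⊤) s, f]) := fun U f =>
    congrArg (fun v => (φ U).symm (exteriorPower.ιMulti _ 2 v)) (hupd U f)
  have hnat : ∀ (U V : X.affineOpens) (h : V.1 ≤ U.1) (f : Γ(F, U.1)),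
      rs L h (T U f) = T V (rs F h f) := fun U V h f => by
    refine (congrArg (rs L h) (hT U f)).trans ((hφ U V h _).trans ?_)
    refine Eq.trans ?_ (hT V _).symm
    congr 2
    funext j
    fin_cases j
    · exact rs_rs F _ _ _
    · rfl
  obtain ⟨w, hw⟩ := AffineHom.exists_hom_of_affine T hnat
  refine ⟨w, fun hw0 => ?_⟩
  obtain ⟨x⟩ := (inferInstance : Nonempty X)
  obtain ⟨U, hxU, ⟨i⟩⟩ := hF x
  obtain ⟨e, he⟩ := TensorMod.Basis.exists_basis_of_iso i
  obtain ⟨Z, hZ, hxZ⟩ := AffineHom.exists_affine (X := X) (V := U) (x := x) hxU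
  let f : Fin 2 → Γ(F, Z.1) := fun j => rs F hZ (e j)
  let c : (Fin 2 → Γ(X, Z.1)) →ₗ[Γ(X, Z.1)] Γ(F, Z.1) := Fintype.linearCombination Γ(X, Z.1) f
  have hc : ⇑c = TensorMod.Basis.comb e hZ := funext fun a => Fintype.linearCombination_apply _ _ _
  let b : Module.Basis (Fin 2) Γ(X, Z.1) Γ(F, Z.1) :=
    Module.Basis.ofEquivFun (LinearEquiv.ofBijective c (hc ▸ he Z.1 hZ)).symm
  have h0 : ∀ g : Γ(F, Z.1), b.det ![rs F (le_top : Z.1 ≤ ⊤) s, g] = 0 := fun g => by
    have h1 : (φ Z).symm (exteriorPower.ιMulti _ 2 ![rs F (le_top : Z.1 ≤ ⊤) s, g]) = 0 :=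
      (hT Z g).symm.trans ((hw Z g).symm.trans (congrArg (fun z : F ⟶ L => z.app Z.1 g) hw0))
    have h2 : exteriorPower.ιMulti Γ(X, Z.1) 2 ![rs F (le_top : Z.1 ≤ ⊤) s, g] = 0 :=
      (φ Z).symm.map_eq_zero_iff.1 h1
    rw [← exteriorPower.alternatingMapLinearEquiv_apply_ιMulti b.det, h2, map_zero]
  have hz : rs F (le_top : Z.1 ≤ ⊤) s = 0 := by
    refine b.repr.map_eq_zero_iff.1 (Finsupp.ext fun j => ?_)
    fin_cases j
    · have := h0 (b 1)
      simpa [Module.Basis.det_apply, Matrix.det_fin_two, Module.Basis.toMatrix_apply] using this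
    · have := h0 (b 0)
      simpa [Module.Basis.det_apply, Matrix.det_fin_two, Module.Basis.toMatrix_apply] using this
  refine PnStable.Sheaf.germ_ne_zero (Modules.DualBasis.hasDBases_of_isFinLocFree (TensorMod.LocFree.of_rank hF)) hs x ?_
  rw [← TopCat.Presheaf.germ_res_apply F.presheaf (homOfLE (le_top : Z.1 ≤ ⊤)) x hxZ s]
  exact (congrArg (F.presheaf.germ Z.1 x hxZ) hz).trans (map_zero _)

end Groth.Agent.Lib.PnLines.Wedge
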