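import Groth.Agent.Lib.PnLines.Main
import Groth.Agent.Lib.PnLines.Coord
import Groth.Agent.Lib.PnLines.Wedge
import Groth.Agent.Lib.PnFlag.Step

/-!
# A semistable hyperplane restriction in rank two
-/

set_option autoImplicit false
set_option linter.all false
set_option maxHeartbeats 1000000
set_option backward.isDefEq.respectTransparency.types false

universe u

open CategoryTheory CategoryTheory.Limits AlgebraicGeometry MvPolynomial

noncomputable section

namespace Groth.Agent.Lib.PnLines.Hyp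

open Groth.Agent.Lib Groth.Agent.Lib.ProjCoh.Coherent Groth.Agent.Lib.ProjCoh.Sections
  Groth.Agent.Lib.PnLines.Dict Groth.Agent.Lib.PnLines.Line Groth.Agent.Lib.PnLines.Restrict
  Groth.Agent.Lib.EssDimM0.LinePts Groth.Agent.Lib.TensorMod.Basic Groth.Agent.Lib.TensorMod.Pullback

variable {k : Type u} [Field k] {n : ℕ}

/-- No sections of sums of two negative twists. -/
theorem h0_biprod (hn : 0 < n) {a b e : ℤ} (ha : a + e < 0) (hb : b + e < 0) :
    Subsingleton (Coh.HH (CohB1.ProjSpace n k) (CohB1.tensorMod (tw n k a ⊞ tw n k b) (tw n k e)) 0) := by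
  haveI := CurveBundle.GP.additive_tensorBy (tw n k e)
  haveI : PreservesBinaryBiproducts (tensorBy (tw n k e)) := preservesBinaryBiproducts_of_preservesBiproducts _
  rw [← ProjCoh.Horrocks.subsingleton_hom_iff]
  let i : CohB1.tensorMod (tw n k a ⊞ tw n k b) (tw n k e) ≅ tw n k (a + e) ⊞ tw n k (b + e) :=
    (tensorBy (tw n k e)).mapBiprod _ _ ≪≫ biprod.mapIso (twTensor a e) (twTensor b e)
  refine subsingleton_of_forall_eq 0 fun f => (i.cancel_iso_hom_right _ _).1 ?_
  rw [zero_comp]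
  refine (twZero.cancel_iso_hom_left _ _).1 ?_
  rw [comp_zero]
  refine biprod.hom_ext _ _ ?_ ?_ <;> rw [zero_comp] <;> apply Dict.hom_eq_zero hn <;> assumption

/-- Untwisting a nonzero homomorphism. -/
theorem exists_untwist {X : Scheme.{u}} {N : X.Modules} (hN : PicF.IsInvertible N) {A B : X.Modules}
    (w : CohB1.tensorMod A N ⟶ CohB1.tensorMod B N) (hw : w ≠ 0) : ∃ g : A ⟶ B, g ≠ 0 := by
  haveI : (tensorBy N).IsEquivalence := CurveBundle.Twist.isEquivalence hN
  haveI : (tensorBy N).Additive := CurveBundle.GP.additive_tensorBy _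
  obtain ⟨g, hg⟩ := (tensorBy N).map_surjective (X := A) (Y := B) w
  exact ⟨g, fun h0 => hw (by rw [← hg, h0, Functor.map_zero]; rfl)⟩

/-- The case of even first Chern class. -/
theorem exists_even [CharZero k] (hn : 1 ≤ n) {E L : (CohB1.ProjSpace (n + 1) k).Modules}
    (hE : FlatMod.IsFinLocFreeOfRank 2 E) {c k₀ : ℤ} (hk₀ : c + 2 * k₀ = 0)
    (hL : ExtPow.IsExtPow 2 E L) (eL : L ≅ tw (n + 1) k c)
    (hss : Subsingleton (Coh.HH (CohB1.ProjSpace (n + 1) k) (CohB1.tensorMod E (tw (n + 1) k (-(c + k₀ + 1)))) 0)) :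
    ∃ (i : CohB1.ProjSpace n k ⟶ CohB1.ProjSpace (n + 1) k), IsClosedImmersion i ∧
      i ≫ CohB1.ProjSpace.toSpec (n + 1) k = CohB1.ProjSpace.toSpec n k ∧
      Nonempty ((Scheme.Modules.pullback i).obj (Twist.twistProjSpace (n + 1) k 1) ≅ Twist.twistProjSpace n k 1) ∧
      Subsingleton (Coh.HH (CohB1.ProjSpace n k)
        (CohB1.tensorMod ((Scheme.Modules.pullback i).obj E) (tw n k (-(c + k₀ + 1)))) 0) := by
  obtain ⟨l, hl, hls, hl1, ⟨e⟩⟩ := Main.exists_line (n := n + 1) (by omega) hE (Or.inl hk₀) hL eL hss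
  obtain ⟨i', _, h, hh, hih, hi's, hhs, he', heh, -⟩ := PnFlag.exists_hyperplane hn l hls hl1
  refine ⟨h, hh, hhs, heh, ?_⟩
  have hEh := TensorMod.LocFree.rank_pullback h hE
  have hE' := PnFlag.isFinLocFree_twist (TensorMod.LocFree.of_rank hEh) k₀
  obtain ⟨j⟩ := PnFlag.nonempty_pullback_twist i' he' ((Scheme.Modules.pullback h).obj E) k₀
  have hv := PnFlag.h0_vanish le_rfl n _ hE' i' hi's he' (fun d hd => by
    refine @Equiv.subsingleton _ _ (Curves.LES.isoK k ?_ 0).toEquiv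
      (h0_biprod (n := 1) zero_lt_one (a := -k₀) (b := c + k₀) (e := k₀ + d) (by omega) (by omega))
    exact tensorIso (j ≪≫ tensorIso ((Scheme.Modules.pullbackComp i' h).app E ≪≫
      (Scheme.Modules.pullbackCongr hih).app E ≪≫ e) (Iso.refl _)) (Iso.refl _) ≪≫
      assoc _ _ _ ≪≫ tensorIso (Iso.refl _) (twTensor _ _)) (-1) (by norm_num)
  refine @Equiv.subsingleton _ _ (Curves.LES.isoK k ?_ 0).toEquiv hv
  exact tensorIso (Iso.refl _) ((eqToIso (congrArg (tw n k) (by omega : -(c + k₀ + 1) = k₀ + -1))) ≪≫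
    (twTensor _ _).symm) ≪≫ (assoc _ _ _).symm

/-- A section of the normalised restriction gives a homomorphism to the twist. -/
theorem exists_hom_of_nontrivial {m : ℕ} {E L : (CohB1.ProjSpace m k).Modules}
    (h : CohB1.ProjSpace n k ⟶ CohB1.ProjSpace m k)
    (h1 : Nonempty ((Scheme.Modules.pullback h).obj (Twist.twistProjSpace m k 1) ≅ Twist.twistProjSpace n k 1))
    (hE : FlatMod.IsFinLocFreeOfRank 2 E) {c : ℤ} (hL : ExtPow.IsExtPow 2 E L) (eL : L ≅ tw m k c) (t : ℤ)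
    (hne : ¬ Subsingleton (Coh.HH (CohB1.ProjSpace n k)
      (CohB1.tensorMod ((Scheme.Modules.pullback h).obj E) (tw n k t)) 0)) :
    ∃ g : (Scheme.Modules.pullback h).obj E ⟶ tw n k (c + t), g ≠ 0 := by
  haveI : IsIntegral (CohB1.ProjSpace n k) := ProjSpace.Basic.isIntegral_projSpace n k
  haveI := (Perfect.Coherent.isCoh_of_isFinLocFree (TensorMod.LocFree.of_rank hE)).1
  let F := CohB1.tensorMod ((Scheme.Modules.pullback h).obj E) (tw n k t)
  have hEh := TensorMod.LocFree.rank_pullback h hE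
  have hN : PicF.IsInvertible (tw n k t) := isInvertible_tw t
  have hF : FlatMod.IsFinLocFreeOfRank 2 F := by
    simpa using TensorMod.LocFree.rank_tensorMod hEh (TensorMod.LocFree.of_isInvertible hN)
  haveI hqF : F.IsQuasicoherent := (Perfect.Coherent.isCoh_of_isFinLocFree (TensorMod.LocFree.of_rank hF)).1
  haveI hqE : ((Scheme.Modules.pullback h).obj E).IsQuasicoherent :=
    (Perfect.Coherent.isCoh_of_isFinLocFree (TensorMod.LocFree.of_rank hEh)).1
  obtain ⟨z, hz⟩ : ∃ z : Coh.HH (CohB1.ProjSpace n k) F 0, z ≠ 0 := by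
    by_contra hc
    push Not at hc
    exact hne (subsingleton_of_forall_eq 0 hc)
  obtain ⟨L₁, hL₁⟩ := FundLocal.ExtPowExists.exists_isExtPow F 2
  obtain ⟨w, hw⟩ := Wedge.exists_wedge hF hL₁ (Curves.GlobalSections.h0Equiv F z)
    (fun h0 => hz ((Curves.GlobalSections.h0Equiv F).map_eq_zero_iff.1 h0))
  obtain ⟨L₂, hL₂⟩ := FundLocal.ExtPowExists.exists_isExtPow ((Scheme.Modules.pullback h).obj E) 2
  obtain ⟨A⟩ := Cyc.CH.nonempty_detAtlas_of_isExtPow hE hL
  obtain ⟨A'⟩ := A.nonempty_pullback h hEh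
  obtain ⟨A''⟩ := Cyc.CH.nonempty_detAtlas_of_isExtPow hEh hL₂
  obtain ⟨a⟩ := A'.nonempty_iso A''
  obtain ⟨j⟩ := PnFlag.nonempty_pullback_tw h h1 c
  obtain ⟨φM, hφM⟩ := hL₁
  obtain ⟨φN, hφN⟩ := hL₂
  obtain ⟨i⟩ := Modules.ExtPowTwist.nonempty_iso φM hφM φN hφN hN
  obtain ⟨jp⟩ := Bott.Euler.nonempty_tensorPow_tw n k t 2
  let eL₁ : L₁ ≅ CohB1.tensorMod (tw n k (c + t)) (tw n k t) :=
    i ≪≫ tensorIso (a.symm ≪≫ (Scheme.Modules.pullback h).mapIso eL ≪≫ j) jp ≪≫ twTensor _ _ ≪≫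
      eqToIso (congrArg (tw n k) (by push_cast; ring)) ≪≫ (twTensor (c + t) t).symm
  refine exists_untwist hN (w ≫ eL₁.hom) fun h0 => hw ?_
  exact (eL₁.cancel_iso_hom_right _ _).1 (h0.trans zero_comp.symm)

variable {E : (CohB1.ProjSpace (n + 1) k).Modules} (P : Pres E) (p q : Fin (n + 2) → k)
  (hpq : LinearIndependent k ![p, q]) {α β : ℤ}
  (e : (Scheme.Modules.pullback (line p q hpq)).obj E ≅ tw 1 k β ⊞ tw 1 k α) (hαβ : α < β)

include e hαβ in
theorem sol_eq_zero_of_lt {f : ℕ} (hf : P.a₀ + (f : ℤ) < α) {s : Fin P.b → Polynomial k}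
    (hs : s ∈ Descent.Sol (fun t i => (P.g t i : MvPolynomial (Fin (n + 2)) k)) p q f) : s = 0 := by
  obtain ⟨h, hh⟩ := exists_hom P p q hpq (rfl : P.a₀ + (f : ℤ) = P.a₀ + (f : ℤ)) hs
  have h0 : h = 0 := by
    rw [← e.cancel_iso_inv_left, comp_zero]
    refine biprod.hom_ext' _ _ ?_ ?_ <;> rw [comp_zero] <;> apply Dict.hom_eq_zero zero_lt_one <;> omega
  funext i
  have h1 := hh i
  rw [h0, comp_zero] at h1
  haveI := isIso_cmp p q hpq P.a₀
  have h2 := (cancel_epi (cmp p q hpq P.a₀)).1 (h1.symm.trans comp_zero.symm)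
  have h3 := congrArg Subtype.val (eq_zero_of_mulG le_rfl rfl _ h2)
  have h4 := congrArg dehom h3
  rw [dehom_homog _ (hs.1 i)] at h4
  exact h4.trans (map_zero _)

include e hαβ in
theorem exists_gen {d : ℕ} (hd : P.a₀ + (d : ℤ) = α) :
    ∃ w : Fin P.b → Polynomial k,
      ∀ s ∈ Descent.Sol (fun t i => (P.g t i : MvPolynomial (Fin (n + 2)) k)) p q d, ∃ c : k, s = c • w := by
  let h₀ : (Scheme.Modules.pullback (line p q hpq)).obj E ⟶ tw 1 k α := e.hom ≫ biprod.snd
  obtain ⟨r₀, hr₀, -⟩ := exists_sol P p q hpq hd h₀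
  refine ⟨fun i => dehom (r₀ i : S 1 k), fun s hs => ?_⟩
  obtain ⟨h, hh⟩ := exists_hom P p q hpq hd hs
  have h00 : α + ((0 : ℕ) : ℤ) = α := by simp
  obtain ⟨l, hl⟩ := exists_mulG le_rfl h00 (biprod.inr ≫ e.inv ≫ h)
  have hz := Dict.hom_eq_zero zero_lt_one hαβ (biprod.inl ≫ e.inv ≫ h)
  have hfac : h = h₀ ≫ mulG h00 l := by
    rw [hl, ← e.cancel_iso_inv_left]
    refine biprod.hom_ext' _ _ ?_ (by simp [h₀])
    rw [hz]
    simp [h₀]
  obtain ⟨c, hc⟩ : ∃ c : k, (l : MvPolynomial (Fin 2) k) = C c :=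
    ⟨_, totalDegree_eq_zero_iff_eq_C.1 (Nat.le_zero.1 (MvPolynomial.IsHomogeneous.totalDegree_le l.2))⟩
  refine ⟨c, funext fun i => ?_⟩
  have h1 := hh i
  rw [hfac, ← Category.assoc, ← hr₀ i, Category.assoc, mulG_comp hd h00 (show P.a₀ + ((d + 0 : ℕ) : ℤ) = α by simpa)] at h1
  haveI := isIso_cmp p q hpq P.a₀
  have h2 := (cancel_epi (cmp p q hpq P.a₀)).1 h1
  rw [← sub_eq_zero] at h2
  have h3 : mulG hd ((⟨(r₀ i : S 1 k) * (l : S 1 k), SetLike.mul_mem_graded (r₀ i).2 l.2⟩ :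
      CohB1.polyGrading 1 k d) - ⟨homog d (s i), homog_mem _ _⟩) = 0 :=
    ((AddMonoidHom.mk' (mulG hd) (mulG_add hd)).map_sub _ _).trans h2
  have h5 := congrArg dehom (congrArg Subtype.val (sub_eq_zero.1 (eq_zero_of_mulG le_rfl hd _ h3)))
  rw [map_mul, dehom_homog _ (hs.1 i), hc] at h5
  rw [← h5, Pi.smul_apply, Polynomial.smul_eq_C_mul, mul_comm]
  simp [dehom, Polynomial.algebraMap_eq]

/-- The case of odd first Chern class. -/
theorem exists_odd [CharZero k] (hn : 2 ≤ n) {E L : (CohB1.ProjSpace (n + 1) k).Modules}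
    (hE : FlatMod.IsFinLocFreeOfRank 2 E) {c k₀ : ℤ} (hk₀ : c + 2 * k₀ = -1)
    (hL : ExtPow.IsExtPow 2 E L) (eL : L ≅ tw (n + 1) k c)
    (hss : Subsingleton (Coh.HH (CohB1.ProjSpace (n + 1) k) (CohB1.tensorMod E (tw (n + 1) k (-(c + k₀ + 1)))) 0)) :
    ∃ (i : CohB1.ProjSpace n k ⟶ CohB1.ProjSpace (n + 1) k), IsClosedImmersion i ∧
      i ≫ CohB1.ProjSpace.toSpec (n + 1) k = CohB1.ProjSpace.toSpec n k ∧
      Nonempty ((Scheme.Modules.pullback i).obj (Twist.twistProjSpace (n + 1) k 1) ≅ Twist.twistProjSpace n k 1) ∧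
      Subsingleton (Coh.HH (CohB1.ProjSpace n k)
        (CohB1.tensorMod ((Scheme.Modules.pullback i).obj E) (tw n k (-(c + k₀ + 1)))) 0) := by
  classical
  by_contra hcon
  obtain ⟨P⟩ := exists_pres (n := n + 1) (by omega) E
    (Perfect.Coherent.isCoh_of_isFinLocFree (TensorMod.LocFree.of_rank hE))
  obtain ⟨p, q, hpq, ⟨e⟩⟩ := Main.exists_good (n := n + 1) (by omega) hE (Or.inr hk₀) hL eL hss
  have hαβ : c + k₀ < -k₀ := by omega
  obtain ⟨f₁, hf₁⟩ := Main.exists_hom_ne_zero (e ≪≫ biprod.braiding _ _) (le_refl (c + k₀))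
  obtain ⟨d, hd⟩ : ∃ d : ℕ, P.a₀ + (d : ℤ) = c + k₀ :=
    ⟨(c + k₀ - P.a₀).toNat, by have := Main.nonneg_of_hom P p q hpq f₁ hf₁; omega⟩
  obtain ⟨A, A', hA0, hA1, hAA', hA'A⟩ := Coord.exists_basis hpq
  let a : Fin (n + 2) := ⟨2, by omega⟩
  let b : Fin (n + 2) := ⟨3, by omega⟩
  have hab : a ≠ b := by simp [a, b, Fin.ext_iff]
  have ha : a ∉ ({0, 1} : Finset (Fin (n + 2))) := by simp [a, Fin.ext_iff]
  have hb : b ∉ ({0, 1} : Finset (Fin (n + 2))) := by simp [b, Fin.ext_iff]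
  let g' : Fin P.c → Fin P.b → MvPolynomial (Fin (n + 2)) k := fun t i => lin k A (P.g t i)
  -- restricting forms on the line
  let res : MvPolynomial (Fin (n + 2)) k →ₐ[k] Polynomial k := dehom.comp (Coord.bin n)
  have hres : ∀ {f : ℕ} (u : Fin P.b → MvPolynomial (Fin (n + 2)) k), (∀ i, (u i).IsHomogeneous f) →
      (∀ t, ∑ i, Glue.kill ({0, 1} : Finset (Fin (n + 2)))ᶜ (g' t i) * u i = 0) →
      (fun i => dehom (Coord.bin n (u i))) ∈ Descent.Sol (fun t i => (P.g t i : MvPolynomial (Fin (n + 2)) k)) p q f := by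
    intro f u hu hs
    refine ⟨fun i => natDegree_dehom (Coord.bin_mem (hu i)), fun t => ?_⟩
    have h1 := congrArg res (hs t)
    simp only [map_sum, map_mul, map_zero, res, g', AlgHom.comp_apply, Coord.bin_kill,
      Coord.dehom_bin_lin hA0 hA1] at h1
    exact h1
  have hlow : Glue.NoLow g' ({0, 1} : Finset (Fin (n + 2))) d := fun f hf u hu hfix hs => by
    have h0 := sol_eq_zero_of_lt P p q hpq e hαβ (f := f) (by omega) (hres u hu hs)
    refine funext fun i => ?_
    rw [Pi.zero_apply]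
    exact Coord.eq_zero_of_bin (d := f) (hu i) (hfix i) ((congrFun h0 i).trans (Pi.zero_apply i))
  obtain ⟨w, hw⟩ := exists_gen P p q hpq e hαβ hd
  obtain ⟨R, hR0, hRhom, hR⟩ := Glue.exists_glue (g := g') hab ha hb hlow
    (fun t i => (lin k A).map_mem (P.g t i).2)
    (fun u u' hu hu' hfix hfix' hs hs' hu0 => by
      obtain ⟨x, hx⟩ := hw _ (hres u hu hs)
      obtain ⟨y, hy⟩ := hw _ (hres u' hu' hs')
      have hx0 : x ≠ 0 := fun hx0 => hu0 (by
        refine funext fun i => ?_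
        rw [Pi.zero_apply]
        refine Coord.eq_zero_of_bin (d := d) (hu i) (hfix i) ?_
        have := congrFun hx i
        simpa [hx0] using this)
      refine ⟨y / x, funext fun i => ?_⟩
      rw [Pi.smul_apply, ← sub_eq_zero]
      refine Coord.eq_zero_of_bin (d := d) ((hu' i).sub ?_) ?_ ?_
      · rw [smul_eq_C_mul]
        exact (hu i).C_mul _
      · rw [map_sub, map_smul, hfix, hfix']
      · have e1 := congrFun hx i
        have e2 := congrFun hy i
        simp only [Pi.smul_apply] at e1 e2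
        simp only [Pi.smul_apply, map_sub, map_smul, e1, e2, smul_smul, div_mul_cancel₀ _ hx0, sub_self])
    (fun s => by
      have hM := Coord.hypMat_surj A a b s hab A' hA'A
      have hne : ¬ Subsingleton (Coh.HH (CohB1.ProjSpace n k) (CohB1.tensorMod
          ((Scheme.Modules.pullback (linMap k (Coord.hypMat A a b s) hM)).obj E) (tw n k k₀)) 0) := fun h => hcon
        ⟨linMap k _ hM, ProjSub.Closed.isClosedImmersion_map _ hM _, linMap_toSpec k _ _,
          ProperFin.TwistBC.nonempty_pullback_twist_iso _ _ ProjCoh.Coherent.hcov 1,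
          by rwa [show -(c + k₀ + 1) = k₀ by omega]⟩
      obtain ⟨g, hg⟩ := exists_hom_of_nontrivial (linMap k (Coord.hypMat A a b s) hM)
        (ProperFin.TwistBC.nonempty_pullback_twist_iso _ _ ProjCoh.Coherent.hcov 1) hE hL eL k₀ hne
      obtain ⟨r, hr0, hrd, hr⟩ := Coord.exists_sol_lin P _ hM (by omega) hd g hg
      refine ⟨fun i => rename b.succAbove (r i), fun i => (hrd i).rename_isHomogeneous, fun h0 => hr0 ?_,
        fun i => ?_, fun t => ?_⟩
      · exact funext fun i => rename_injective _ Fin.succAbove_right_injective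
          ((congrFun h0 i).trans (map_zero _).symm)
      · refine DFunLike.congr_fun (algHom_ext (f := (Glue.hsub a b s).comp (rename b.succAbove))
          (g := rename b.succAbove) fun j => ?_) (r i)
        simp [Glue.hsub, Fin.succAbove_ne b j]
      · simp only [g', ← Coord.rename_lin A a b s hab, ← map_mul, ← map_sum, hr t, map_zero])
  -- back to the original coordinates
  have hid : ∀ u, lin k A' (lin k A u) = u := fun u => by
    have h := DFunLike.congr_fun (lin_comp k A A') u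
    rw [show (fun i t => ∑ j, A i j * A' j t) = (fun i t => if i = t then (1 : k) else 0) from
      funext fun i => funext fun t => hAA' i t, lin_one] at h
    exact h
  have hid' : ∀ u, lin k A (lin k A' u) = u := fun u => by
    have h := DFunLike.congr_fun (lin_comp k A' A) u
    rw [show (fun i t => ∑ j, A' i j * A j t) = (fun i t => if i = t then (1 : k) else 0) from
      funext fun i => funext fun t => hA'A i t, lin_one] at h
    exact h
  obtain ⟨h, hh⟩ := exists_forms P (by omega) hd (fun i => ⟨lin k A' (R i), (lin k A').map_mem (hRhom i)⟩) fun t => by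
    have h1 := congrArg (lin k A') (hR t)
    simpa only [g', map_sum, map_mul, hid, map_zero] using h1
  have hh0 := Main.hom_eq_zero' hE hL eL hss (show c + k₀ ≤ -k₀ - 1 by omega) h
  refine hR0 (funext fun i => ?_)
  have h1 := hh i
  rw [hh0, comp_zero] at h1
  have h2 := congrArg (lin k A) (congrArg Subtype.val (eq_zero_of_mulG (by omega) hd _ h1.symm))
  simpa [hid'] using h2

/-- A semistable hyperplane restriction. -/
theorem exists_hyperplane_semistable [CharZero k] (hn : 2 ≤ n) {E L : (CohB1.ProjSpace (n + 1) k).Modules}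
    (hE : FlatMod.IsFinLocFreeOfRank 2 E) {c k₀ : ℤ} (hk₀ : c + 2 * k₀ = 0 ∨ c + 2 * k₀ = -1)
    (hL : ExtPow.IsExtPow 2 E L) (eL : L ≅ tw (n + 1) k c)
    (hss : Subsingleton (Coh.HH (CohB1.ProjSpace (n + 1) k) (CohB1.tensorMod E (tw (n + 1) k (-(c + k₀ + 1)))) 0)) :
    ∃ (i : CohB1.ProjSpace n k ⟶ CohB1.ProjSpace (n + 1) k), IsClosedImmersion i ∧
      i ≫ CohB1.ProjSpace.toSpec (n + 1) k = CohB1.ProjSpace.toSpec n k ∧
      Nonempty ((Scheme.Modules.pullback i).obj (Twist.twistProjSpace (n + 1) k 1) ≅ Twist.twistProjSpace n k 1) ∧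
      Subsingleton (Coh.HH (CohB1.ProjSpace n k)
        (CohB1.tensorMod ((Scheme.Modules.pullback i).obj E) (tw n k (-(c + k₀ + 1)))) 0) :=
  hk₀.elim (fun h => exists_even (by omega) hE h hL eL hss) fun h => exists_odd hn hE h hL eL hss

end Groth.Agent.Lib.PnLines.Hyp
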