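import Groth.Agent.Lib.PnLines.Dict
import Groth.Agent.Lib.PnLines.Descent
import Groth.Agent.Lib.EssDimM0.LinePts
import Groth.Agent.Lib.PnFlag.Cohom

/-!
# Restriction of forms and twists to the line through two points
-/

set_option autoImplicit false
set_option linter.all false
set_option maxHeartbeats 1000000
set_option backward.isDefEq.respectTransparency.types false

universe u

open CategoryTheory CategoryTheory.Limits AlgebraicGeometry TopologicalSpace Opposite MvPolynomial

noncomputable section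

namespace Groth.Agent.Lib.PnLines.Line

open Groth.Agent.Lib Groth.Agent.Lib.ProjCoh.Coherent Groth.Agent.Lib.ProjCoh.Sections
  Groth.Agent.Lib.PnLines.Dict Groth.Agent.Lib.ProperFin.TwistBC Groth.Agent.Lib.EssDimM0.LinePts
  Groth.Agent.Lib.TensorMod.Basic Groth.Agent.Lib.TensorMod.Pullback

variable {k : Type u} [Field k]

/-! ### Dehomogenisation of binary forms -/

/-- `X₀ ↦ 1`, `X₁ ↦ λ`. -/
def dehom : MvPolynomial (Fin 2) k →ₐ[k] Polynomial k := aeval ![1, Polynomial.X]

/-- Homogenisation in degree `d`. -/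
def homog (d : ℕ) (s : Polynomial k) : MvPolynomial (Fin 2) k :=
  ∑ a ∈ Finset.range (d + 1), C (s.coeff a) * X 0 ^ (d - a) * X 1 ^ a

theorem homog_mem (d : ℕ) (s : Polynomial k) : homog d s ∈ CohB1.polyGrading 1 k d := by
  refine Submodule.sum_mem _ fun a ha => ?_
  have h : ((C (s.coeff a) * X 0 ^ (d - a) * X 1 ^ a : MvPolynomial (Fin 2) k)).IsHomogeneous (0 + (d - a) + a) :=
    ((isHomogeneous_C _ _).mul (isHomogeneous_X_pow _ _)).mul (isHomogeneous_X_pow _ _)
  have ha' : a ≤ d := Nat.lt_succ_iff.1 (Finset.mem_range.1 ha)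
  rwa [show 0 + (d - a) + a = d by omega] at h

theorem dehom_homog {d : ℕ} (s : Polynomial k) (hs : s.natDegree ≤ d) : dehom (homog d s) = s := by
  conv_rhs => rw [s.as_sum_range' (d + 1) (Nat.lt_succ_of_le hs)]
  simp [homog, dehom, Polynomial.C_mul_X_pow_eq_monomial]

theorem exp_sum {d : ℕ} {F : MvPolynomial (Fin 2) k} (hF : F ∈ CohB1.polyGrading 1 k d) {t : Fin 2 →₀ ℕ}
    (ht : t ∈ F.support) : t 0 + t 1 = d := by
  have h := (show F.IsHomogeneous d from hF) (MvPolynomial.mem_support_iff.1 ht)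
  simpa [Finsupp.weight_apply, Finsupp.sum_fintype, Fin.sum_univ_two] using h

theorem dehom_monomial (t : Fin 2 →₀ ℕ) (c : k) :
    dehom (monomial t c) = Polynomial.C c * Polynomial.X ^ (t 1) := by
  simp [dehom, aeval_monomial, Finsupp.prod_fintype, Fin.prod_univ_two, Polynomial.algebraMap_eq]

theorem natDegree_dehom {d : ℕ} {F : MvPolynomial (Fin 2) k} (hF : F ∈ CohB1.polyGrading 1 k d) :
    (dehom F).natDegree ≤ d := by
  rw [F.as_sum, map_sum]
  refine Polynomial.natDegree_sum_le_of_forall_le _ _ fun t ht => ?_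
  rw [dehom_monomial]
  exact (Polynomial.natDegree_C_mul_X_pow_le _ _).trans (by have := exp_sum hF ht; omega)

theorem eq_zero_of_dehom {d : ℕ} {F : MvPolynomial (Fin 2) k} (hF : F ∈ CohB1.polyGrading 1 k d)
    (h : dehom F = 0) : F = 0 := by
  ext t
  rw [coeff_zero]
  by_contra ht
  have htm := MvPolynomial.mem_support_iff.2 ht
  have h1 := congrArg (fun f : Polynomial k => f.coeff (t 1)) h
  rw [F.as_sum, map_sum] at h1
  simp only [Polynomial.finsetSum_coeff, dehom_monomial, Polynomial.coeff_C_mul, Polynomial.coeff_X_pow,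
    Polynomial.coeff_zero] at h1
  rw [Finset.sum_eq_single t (fun t' ht' hne => ?_) (fun hn => absurd htm hn)] at h1
  · simp at h1; exact ht h1
  · rw [if_neg, mul_zero]
    intro he
    refine hne (Finsupp.ext fun i => ?_)
    have := exp_sum hF ht'
    have := exp_sum hF htm
    fin_cases i
    · simp only [Fin.zero_eta]; omega
    · exact he.symm

/-! ### The line through two points -/

variable {n : ℕ}

/-- The matrix of the line through `p`, `q`. -/
abbrev mat (p q : Fin (n + 1) → k) : Fin (n + 1) → Fin 2 → k := fun i => ![p i, q i]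

theorem lin_surj {p q : Fin (n + 1) → k} (h : LinearIndependent k ![p, q]) :
    Function.Surjective (lin k (mat p q)) := by
  obtain ⟨g, hg⟩ := LinearMap.exists_leftInverse_of_injective (Fintype.linearCombination k ![p, q])
    (LinearMap.ker_eq_bot.2 h.fintypeLinearCombination_injective)
  refine lin_surjective_of_mem k _ (fun j i => g (Pi.single i 1) j) fun j l => ?_
  have h1 := congrFun (LinearMap.congr_fun hg (Pi.single l (1 : k))) j
  simp only [LinearMap.comp_apply, Fintype.linearCombination_apply_single, one_smul, LinearMap.id_apply] at h1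
  rw [show ![p, q] l = ∑ i, (![p, q] l i) • (Pi.single i (1 : k) : Fin (n + 1) → k) from
    pi_eq_sum_univ' (![p, q] l), map_sum, Finset.sum_apply] at h1
  simp only [map_smul, Pi.smul_apply, smul_eq_mul] at h1
  refine Eq.trans (Finset.sum_congr rfl fun i _ => ?_) (h1.trans (by simp [Pi.single_apply]))
  fin_cases l <;> simp [mat, mul_comm]

theorem dehom_lin (p q : Fin (n + 1) → k) (g : MvPolynomial (Fin (n + 1)) k) :
    dehom (lin k (mat p q) g) = Descent.φat p q g := by
  refine DFunLike.congr_fun (MvPolynomial.algHom_ext (f := dehom.comp (aeval (R := k) (forms k (mat p q))))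
    (g := Descent.φat p q) fun i => ?_) g
  simp [dehom, forms, Descent.φat, Fin.sum_univ_two, mat, Polynomial.algebraMap_eq]

/-! ### Comparison maps -/

variable {m : ℕ} (φ : CohB1.polyGrading n k →+*ᵍ CohB1.polyGrading m k)
  (hφ : HomogeneousIdeal.irrelevant (CohB1.polyGrading m k) ≤ (HomogeneousIdeal.irrelevant (CohB1.polyGrading n k)).map φ)

theorem comapMap_ne_zero (hm : 1 ≤ m) (a : ℤ) : comapMap φ hφ a ≠ 0 := by
  intro h0
  obtain ⟨f, hf, hfp⟩ := ProjCoh.Coherent.hcov (n := n) (R := k) (ProjectiveSpectrum.comap φ hφ (genPt (k := k) hm))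
  have hd : f ^ (-a).toNat ∈ CohB1.polyGrading n k (-a).toNat := by
    have h := SetLike.pow_mem_graded (-a).toNat hf
    rwa [smul_eq_mul, mul_one] at h
  have hc : f ^ a.toNat ∈ CohB1.polyGrading n k a.toNat := by
    have h := SetLike.pow_mem_graded a.toNat hf
    rwa [smul_eq_mul, mul_one] at h
  let U : (CohB1.ProjSpace n k).Opens := Proj.basicOpen (CohB1.polyGrading n k) (f ^ (-a).toNat)
  have hp : ProjectiveSpectrum.comap φ hφ (genPt (k := k) hm) ∈ U := fun hh =>
    hfp ((ProjectiveSpectrum.comap φ hφ (genPt (k := k) hm)).isPrime.mem_of_pow_mem _ hh)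
  let σ : Γ(tw n k a, U) := ofTilde (ProjTilde.Frac.fracSec _ hd (a := f ^ a.toNat)
    (ProjTilde.Frac.Deg.of_mem hc (Or.inl (by omega))) le_rfl)
  have h1 : locMap φ hφ (genPt (k := k) hm) (Localization.mk (f ^ a.toNat) ⟨f ^ (-a).toNat, hp⟩) = 0 :=
    congrArg (fun g : tw n k a ⟶ (pf (Proj.map φ hφ)).obj (tw m k a) =>
      val' (n := m) (U := (Proj.map φ hφ) ⁻¹ᵁ U) (g.app U σ) ⟨genPt (k := k) hm, hp⟩) h0
  rw [locMap_mk, Localization.mk_eq_mk', IsLocalization.mk'_eq_zero_iff] at h1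
  obtain ⟨w, hw⟩ := h1
  rcases mul_eq_zero.1 hw with hw | hw
  · exact absurd ((Submodule.mem_bot _).2 hw) w.2
  · have hfne : φ f ≠ 0 := fun e => hfp (show φ f ∈ (genPt (k := k) hm).asHomogeneousIdeal from e ▸ zero_mem _)
    exact pow_ne_zero a.toNat hfne (by rwa [map_pow] at hw)

theorem mulG_one {a : ℤ} {e : ℕ} (h : a + (e : ℤ) = a) (F : CohB1.polyGrading m k e)
    (hF : (F : MvPolynomial (Fin (m + 1)) k) = 1) : mulG h F = 𝟙 (tw m k a) := by
  ext U σ
  refine Dict.sec_ext fun x => (val_mulG h F U σ x).trans ?_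
  rw [hF, Localization.mk_one, one_mul]
  rfl

theorem isIso_comparison (hm : 1 ≤ m) (a : ℤ) : IsIso (comparison φ hφ a) := by
  obtain ⟨e1⟩ := nonempty_pullback_twist_iso φ hφ ProjCoh.Coherent.hcov 1
  obtain ⟨η⟩ := PnFlag.nonempty_pullback_tw (Proj.map φ hφ) ⟨e1⟩ a
  obtain ⟨F, hF⟩ := exists_mulG hm (show a + ((0 : ℕ) : ℤ) = a by simp) (η.inv ≫ comparison φ hφ a)
  obtain ⟨c, hc⟩ : ∃ c : k, (F : MvPolynomial (Fin (m + 1)) k) = C c :=
    ⟨_, totalDegree_eq_zero_iff_eq_C.1 (Nat.le_zero.1 (MvPolynomial.IsHomogeneous.totalDegree_le F.2))⟩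
  have hc0 : c ≠ 0 := by
    intro hc0
    have hF0 : F = 0 := Subtype.ext (by rw [hc, hc0, map_zero]; rfl)
    rw [hF0, mulG_zero] at hF
    refine comapMap_ne_zero φ hφ hm a ?_
    have hz : comparison φ hφ a = 0 := (η.cancel_iso_inv_left _ _).1 (hF.symm.trans comp_zero.symm)
    exact (((pbAdj (Proj.map φ hφ)).homEquiv _ _).apply_symm_apply _).symm.trans
      ((congrArg _ hz).trans (((pbAdj (Proj.map φ hφ)).homAddEquiv _ _).map_zero))
  let F' : CohB1.polyGrading m k 0 := ⟨C c⁻¹, isHomogeneous_C _ _⟩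
  have key : ∀ G G' : CohB1.polyGrading m k 0, (G : MvPolynomial (Fin (m + 1)) k) * G' = 1 →
      mulG (show a + ((0 : ℕ) : ℤ) = a by simp) G ≫ mulG (show a + ((0 : ℕ) : ℤ) = a by simp) G' = 𝟙 _ := by
    intro G G' hGG
    rw [mulG_comp _ _ (show a + ((0 + 0 : ℕ) : ℤ) = a by simp)]
    exact mulG_one _ _ hGG
  haveI : IsIso (η.inv ≫ comparison φ hφ a) := by
    rw [← hF]
    refine ⟨mulG (by simp) F', key F F' ?_, key F' F ?_⟩
    · rw [hc, ← C_mul, mul_inv_cancel₀ hc0, C_1]
    · rw [hc, ← C_mul, inv_mul_cancel₀ hc0, C_1]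
  exact IsIso.of_isIso_comp_left η.inv _

end Groth.Agent.Lib.PnLines.Line
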