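import Groth.Agent.Lib.PnLines.Split
import Groth.Agent.Lib.PnLines.Few

/-!
# Grauert–Mülich for semistable rank two bundles on `P^n`
-/

set_option autoImplicit false
set_option linter.all false
set_option maxHeartbeats 1000000
set_option backward.isDefEq.respectTransparency.types false

universe u

open CategoryTheory CategoryTheory.Limits AlgebraicGeometry MvPolynomial

noncomputable section

namespace Groth.Agent.Lib.PnLines.Main

open Groth.Agent.Lib Groth.Agent.Lib.ProjCoh.Coherent Groth.Agent.Lib.ProjCoh.Sections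
  Groth.Agent.Lib.PnLines.Dict Groth.Agent.Lib.PnLines.Line Groth.Agent.Lib.PnLines.Restrict
  Groth.Agent.Lib.EssDimM0.LinePts Groth.Agent.Lib.TensorMod.Basic

variable {k : Type u} [Field k]

variable {n : ℕ}

variable [CharZero k]

/-- The Grauert–Mülich theorem for rank two. -/
theorem exists_good (hn : 1 ≤ n) {E L : (CohB1.ProjSpace n k).Modules} (hE : FlatMod.IsFinLocFreeOfRank 2 E)
    {c k₀ : ℤ} (hk₀ : c + 2 * k₀ = 0 ∨ c + 2 * k₀ = -1) (hL : ExtPow.IsExtPow 2 E L) (eL : L ≅ tw n k c)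
    (hss : Subsingleton (Coh.HH (CohB1.ProjSpace n k) (CohB1.tensorMod E (tw n k (-(c + k₀ + 1)))) 0)) :
    ∃ (p q : Fin (n + 1) → k) (hpq : LinearIndependent k ![p, q]),
      Nonempty ((Scheme.Modules.pullback (line p q hpq)).obj E ≅ tw 1 k (-k₀) ⊞ tw 1 k (c + k₀)) := by
  obtain ⟨P⟩ := exists_pres hn E (Perfect.Coherent.isCoh_of_isFinLocFree (TensorMod.LocFree.of_rank hE))
  have hone : ∀ (p q : Fin (n + 1) → k) (hpq : LinearIndependent k ![p, q]),
      Nonempty ((Scheme.Modules.pullback (line p q hpq)).obj (Twist.twistProjSpace n k 1) ≅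
        Twist.twistProjSpace 1 k 1) := fun p q hpq =>
    ProperFin.TwistBC.nonempty_pullback_twist_iso _ _ ProjCoh.Coherent.hcov 1
  by_cases hgood : ∃ (p q : Fin (n + 1) → k) (hpq : LinearIndependent k ![p, q]) (α β : ℤ), c + k₀ ≤ α ∧ α ≤ β ∧
      Nonempty ((Scheme.Modules.pullback (line p q hpq)).obj E ≅ tw 1 k α ⊞ tw 1 k β)
  · obtain ⟨p, q, hpq, α, β, hα, hαβ, ⟨e⟩⟩ := hgood
    have hsum := add_eq hE hL eL _ (hone p q hpq) e
    exact ⟨p, q, hpq, ⟨e ≪≫ biprod.mapIso (eqToIso (congrArg (tw 1 k) (by omega : α = c + k₀)))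
        (eqToIso (congrArg (tw 1 k) (by omega : β = -k₀))) ≪≫ biprod.braiding _ _⟩⟩
  exfalso
  -- the splitting types
  let P' : ℤ → Prop := fun z => ∃ (p q : Fin (n + 1) → k) (hpq : LinearIndependent k ![p, q]) (β : ℤ), z ≤ β ∧
    Nonempty ((Scheme.Modules.pullback (line p q hpq)).obj E ≅ tw 1 k z ⊞ tw 1 k β)
  have htype : ∀ p q (hpq : LinearIndependent k ![p, q]), ∃ z, P' z ∧
      ∃ β, Nonempty ((Scheme.Modules.pullback (line p q hpq)).obj E ≅ tw 1 k z ⊞ tw 1 k β) := fun p q hpq => by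
    obtain ⟨α, β, h, e⟩ := exists_split (TensorMod.LocFree.rank_pullback (line p q hpq) hE)
    exact ⟨α, ⟨p, q, hpq, β, h, e⟩, β, e⟩
  have hbd : ∀ z, P' z → z ≤ c + k₀ - 1 := fun z ⟨p, q, hpq, β, h, e⟩ => by
    by_contra hz
    exact hgood ⟨p, q, hpq, z, β, by omega, h, e⟩
  have hv₀ : LinearIndependent k ![(Pi.single 0 1 : Fin (n + 1) → k), Pi.single (Fin.last n) 1] := by
    rw [LinearIndependent.pair_iff]
    intro s t hst
    have hne : (0 : Fin (n + 1)) ≠ Fin.last n := fun hh => by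
      have := congrArg Fin.val hh
      simp at this
      omega
    have e0 := congrFun hst 0
    have e1 := congrFun hst (Fin.last n)
    simp [hne, hne.symm] at e0 e1
    exact ⟨e0, e1⟩
  obtain ⟨a₀, ⟨p₁, q₁, hpq₁, β₁, hle₁, ⟨e₁⟩⟩, hmax⟩ := Int.exists_greatest_of_bdd (P := P')
    ⟨c + k₀ - 1, hbd⟩ (let ⟨z, hz, _⟩ := htype _ _ hv₀; ⟨z, hz⟩)
  have hb : a₀ ≤ c + k₀ - 1 := hbd a₀ ⟨p₁, q₁, hpq₁, β₁, hle₁, ⟨e₁⟩⟩
  have hsum := add_eq hE hL eL _ (hone p₁ q₁ hpq₁) e₁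
  obtain ⟨f₁, hf₁⟩ := exists_hom_ne_zero e₁ le_rfl
  obtain ⟨d, hd⟩ : ∃ d : ℕ, P.a₀ + (d : ℤ) = a₀ :=
    ⟨(a₀ - P.a₀).toNat, by have := nonneg_of_hom P p₁ q₁ hpq₁ f₁ hf₁; omega⟩
  have hall : ∀ p q : Fin (n + 1) → k, LinearIndependent k ![p, q] →
      Descent.Sol (fun t i => (P.g t i : MvPolynomial (Fin (n + 1)) k)) p q d ≠ ⊥ := fun p q hpq => by
    obtain ⟨z, hz, β, ⟨e⟩⟩ := htype p q hpq
    obtain ⟨f, hf⟩ := exists_hom_ne_zero e (hmax z hz)
    exact sol_ne_bot P p q hpq hd f hf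
  have hfew := finrank_sol_le P p₁ q₁ hpq₁ hd e₁ (by omega)
  haveI : Nontrivial (Fin (n + 1)) := Fin.nontrivial_iff_two_le.2 (by omega)
  obtain ⟨r, hr0, hrhom, hr⟩ := Descent.exists_global (fun t i => (P.g t i : MvPolynomial (Fin (n + 1)) k))
    (e := P.e) (fun t i => (P.g t i).2) d hall p₁ q₁ hfew
  obtain ⟨h, hh⟩ := exists_forms P hn hd (fun i => ⟨r i, hrhom i⟩) hr
  have hh0 := hom_eq_zero' hE hL eL hss (show a₀ ≤ -k₀ - 1 by omega) h
  refine hr0 (funext fun i => ?_)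
  have h1 := hh i
  rw [hh0, comp_zero] at h1
  exact congrArg Subtype.val (eq_zero_of_mulG hn hd _ h1.symm)

/-- A line with the generic splitting type, as an immersion. -/
theorem exists_line (hn : 1 ≤ n) {E L : (CohB1.ProjSpace n k).Modules} (hE : FlatMod.IsFinLocFreeOfRank 2 E)
    {c k₀ : ℤ} (hk₀ : c + 2 * k₀ = 0 ∨ c + 2 * k₀ = -1) (hL : ExtPow.IsExtPow 2 E L) (eL : L ≅ tw n k c)
    (hss : Subsingleton (Coh.HH (CohB1.ProjSpace n k) (CohB1.tensorMod E (tw n k (-(c + k₀ + 1)))) 0)) :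
    ∃ (i : CohB1.ProjSpace 1 k ⟶ CohB1.ProjSpace n k), IsClosedImmersion i ∧
      i ≫ CohB1.ProjSpace.toSpec n k = CohB1.ProjSpace.toSpec 1 k ∧
      Nonempty ((Scheme.Modules.pullback i).obj (Twist.twistProjSpace n k 1) ≅ Twist.twistProjSpace 1 k 1) ∧
      Nonempty ((Scheme.Modules.pullback i).obj E ≅ tw 1 k (-k₀) ⊞ tw 1 k (c + k₀)) := by
  obtain ⟨p, q, hpq, e⟩ := exists_good hn hE hk₀ hL eL hss
  exact ⟨line p q hpq, ProjSub.Closed.isClosedImmersion_map _ (lin_surj hpq) _, linMap_toSpec k _ _,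
    ProperFin.TwistBC.nonempty_pullback_twist_iso _ _ ProjCoh.Coherent.hcov 1, e⟩

end Groth.Agent.Lib.PnLines.Main
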