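import Groth.Agent.Lib.PnLines.Line

/-!
# Presentations by forms and homomorphisms out of a restriction to a line
-/

set_option autoImplicit false
set_option linter.all false
set_option maxHeartbeats 1000000
set_option backward.isDefEq.respectTransparency.types false

universe u

open CategoryTheory CategoryTheory.Limits AlgebraicGeometry TopologicalSpace Opposite MvPolynomial

noncomputable section

namespace Groth.Agent.Lib.PnLines.Restrict

open Groth.Agent.Lib Groth.Agent.Lib.ProjCoh.Coherent Groth.Agent.Lib.ProjCoh.Sections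
  Groth.Agent.Lib.PnLines.Dict Groth.Agent.Lib.PnLines.Line Groth.Agent.Lib.ProperFin.TwistBC
  Groth.Agent.Lib.EssDimM0.LinePts Groth.Agent.Lib.TensorMod.Basic Groth.Agent.Lib.TensorMod.Pullback

variable {k : Type u} [Field k] {n : ℕ}

/-- A presentation `O(a₁)^c ⟶ O(a₀)^b ⟶ W ⟶ 0` by forms of degree `e`. -/
structure Pres (W : (CohB1.ProjSpace n k).Modules) where
  b : ℕ
  c : ℕ
  e : ℕ
  a₀ : ℤ
  a₁ : ℤ
  deg : a₁ + (e : ℤ) = a₀
  g : Fin c → Fin b → CohB1.polyGrading n k e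
  π : Fin b → (tw n k a₀ ⟶ W)
  rel : ∀ l, ∑ i, mulG deg (g l i) ≫ π i = 0
  desc : ∀ {T : (CohB1.ProjSpace n k).Modules} (s : Fin b → (tw n k a₀ ⟶ T)),
    (∀ l, ∑ i, mulG deg (g l i) ≫ s i = 0) → ∃ h : W ⟶ T, ∀ i, π i ≫ h = s i
  ext : ∀ {T : (CohB1.ProjSpace n k).Modules} (h : W ⟶ T), (∀ i, π i ≫ h = 0) → h = 0

theorem exists_pres (hn : 1 ≤ n) (W : (CohB1.ProjSpace n k).Modules) (hW : Coh.IsCoh W) : Nonempty (Pres W) := by
  classical
  obtain ⟨b, m₀, p, -, hp⟩ := ProjCoh.SerreDual.exists_epi_ge W hW 0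
  haveI := hW.1
  obtain ⟨c, m₁, q, hm, hq⟩ := ProjCoh.SerreDual.exists_epi_ge (kernel p)
    (CohBasics.Closure.isCoh_kernel p (isCoh_sumTS b _) hW.1) m₀
  let pr : Fin b → (sumTS n k b (-(m₀ : ℤ)) ⟶ TS n k (-(m₀ : ℤ))) :=
    fun i => Sigma.desc fun j => if j = i then 𝟙 _ else 0
  have htot : ∑ i, pr i ≫ Sigma.ι (fun _ : Fin b => TS n k (-(m₀ : ℤ))) i = 𝟙 _ := Sigma.hom_ext _ _ fun j => by
    rw [Preadditive.comp_sum, Category.comp_id, Finset.sum_eq_single j]
    · simp [pr]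
    · intro i _ hi; simp [pr, Ne.symm hi]
    · simp
  obtain ⟨e, he⟩ : ∃ e : ℕ, -(m₁ : ℤ) + (e : ℤ) = -(m₀ : ℤ) := ⟨m₁ - m₀, by omega⟩
  choose g hg using fun (l : Fin c) (i : Fin b) => exists_mulG hn he
    ((twIso (-(m₁ : ℤ))).hom ≫ (Sigma.ι (fun _ : Fin c => TS n k (-(m₁ : ℤ))) l ≫ q ≫ kernel.ι p ≫ pr i) ≫
      (twIso (-(m₀ : ℤ))).inv)
  let π : Fin b → (tw n k (-(m₀ : ℤ)) ⟶ W) := fun i =>
    (twIso (-(m₀ : ℤ))).hom ≫ Sigma.ι (fun _ : Fin b => TS n k (-(m₀ : ℤ))) i ≫ p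
  have hsum : ∀ {T : (CohB1.ProjSpace n k).Modules} (h : sumTS n k b (-(m₀ : ℤ)) ⟶ T) (l : Fin c),
      ∑ i, mulG he (g l i) ≫ ((twIso (-(m₀ : ℤ))).hom ≫ Sigma.ι (fun _ : Fin b => TS n k (-(m₀ : ℤ))) i ≫ h) =
        (twIso (-(m₁ : ℤ))).hom ≫ Sigma.ι (fun _ : Fin c => TS n k (-(m₁ : ℤ))) l ≫ q ≫ kernel.ι p ≫ h := by
    intro T h l
    refine Eq.trans ?_ (congrArg (fun z => (twIso (-(m₁ : ℤ))).hom ≫
      Sigma.ι (fun _ : Fin c => TS n k (-(m₁ : ℤ))) l ≫ q ≫ kernel.ι p ≫ z)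
      ((congrArg (· ≫ h) htot).trans (Category.id_comp h)))
    simp only [Preadditive.sum_comp, Preadditive.comp_sum]
    refine Finset.sum_congr rfl fun i _ => ?_
    rw [hg l i]
    simp only [Category.assoc, Iso.inv_hom_id_assoc]
  refine ⟨⟨b, c, e, _, _, he, g, π, fun l => ?_, ?_, ?_⟩⟩
  · rw [hsum p l, kernel.condition, comp_zero, comp_zero, comp_zero]
  · intro T s hs
    let S : sumTS n k b (-(m₀ : ℤ)) ⟶ T := Sigma.desc fun i => (twIso (-(m₀ : ℤ))).inv ≫ s i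
    have hπS : ∀ i, (twIso (-(m₀ : ℤ))).hom ≫ Sigma.ι (fun _ : Fin b => TS n k (-(m₀ : ℤ))) i ≫ S = s i :=
      fun i => by simp [S]
    have h0 : kernel.ι p ≫ S = 0 := by
      haveI := hq
      rw [← cancel_epi q, comp_zero]
      refine Sigma.hom_ext _ _ fun l => ?_
      rw [comp_zero]
      refine ((twIso (-(m₁ : ℤ))).cancel_iso_hom_left _ _).1 ?_
      rw [comp_zero, ← hsum S l]
      simp only [hπS, hs l]
    haveI := hp
    refine ⟨Abelian.epiDesc p S h0, fun i => ?_⟩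
    simp only [π, Category.assoc, Abelian.comp_epiDesc, hπS]
  · intro T h hh
    haveI := hp
    rw [← cancel_epi p, comp_zero]
    refine Sigma.hom_ext _ _ fun i => ?_
    rw [comp_zero]
    refine ((twIso (-(m₀ : ℤ))).cancel_iso_hom_left _ _).1 ?_
    rw [comp_zero]
    simpa [π] using hh i

variable {W : (CohB1.ProjSpace n k).Modules} (P : Pres W)

theorem eval_comp_mulG {m : ℕ} {a b c : ℤ} {e f : ℕ} (h : a + (e : ℤ) = b) (h' : b + (f : ℤ) = c)
    (h'' : a + ((e + f : ℕ) : ℤ) = c) {ι : Type*} [Fintype ι] (F : ι → CohB1.polyGrading m k e)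
    (G : ι → CohB1.polyGrading m k f) :
    ∑ i, mulG h (F i) ≫ mulG h' (G i) =
      mulG h'' (⟨∑ i, (F i : S m k) * (G i : S m k), Submodule.sum_mem _ fun i _ =>
        SetLike.mul_mem_graded (F i).2 (G i).2⟩ : CohB1.polyGrading m k (e + f)) := by
  rw [Finset.sum_congr rfl fun i _ => mulG_comp h h' h'' (F i) (G i), ← mulG_sum h'']
  congr 1
  exact Subtype.ext (by simp)

/-- The forms of a homomorphism out of the presented sheaf. -/
theorem exists_forms (hn : 1 ≤ n) {d : ℕ} {l : ℤ} (hl : P.a₀ + (d : ℤ) = l)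
    (r : Fin P.b → CohB1.polyGrading n k d) (hr : ∀ t, ∑ i, (P.g t i : S n k) * (r i : S n k) = 0) :
    ∃ h : W ⟶ tw n k l, ∀ i, P.π i ≫ h = mulG hl (r i) :=
  P.desc (fun i => mulG hl (r i)) fun t => by
    have h'' : P.a₁ + ((P.e + d : ℕ) : ℤ) = l := by rw [← hl, ← P.deg]; push_cast; ring
    rw [eval_comp_mulG P.deg hl h'' (fun i => P.g t i) r, show (⟨∑ i, (P.g t i : S n k) * (r i : S n k), _⟩ :
      CohB1.polyGrading n k (P.e + d)) = 0 from Subtype.ext (hr t), mulG_zero]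

variable (p q : Fin (n + 1) → k) (hpq : LinearIndependent k ![p, q])

/-- The line. -/
abbrev line : CohB1.ProjSpace 1 k ⟶ CohB1.ProjSpace n k := linMap k (mat p q) (lin_surj hpq)

/-- The comparison on the line. -/
abbrev cmp (a : ℤ) : (pb (line p q hpq)).obj (tw n k a) ⟶ tw 1 k a :=
  comparison (lin k (mat p q)) (irrel_of_surjective k _ (lin_surj hpq)) a

theorem cmp_nat {a b : ℤ} {e : ℕ} (h : a + (e : ℤ) = b) (F : CohB1.polyGrading n k e) :
    (pb (line p q hpq)).map (mulG h F) ≫ cmp p q hpq b =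
      cmp p q hpq a ≫ mulG h (⟨lin k (mat p q) F, (lin k (mat p q)).map_mem F.2⟩ : CohB1.polyGrading 1 k e) :=
  comparison_mulG _ _ h F

theorem isIso_cmp (a : ℤ) : IsIso (cmp p q hpq a) := isIso_comparison _ _ le_rfl a

/-- The transpose of the restriction of `π i` composed with `h`. -/
theorem π_transpose {T : (CohB1.ProjSpace 1 k).Modules} (h : (pb (line p q hpq)).obj W ⟶ T) (i : Fin P.b) :
    P.π i ≫ (pbAdj (line p q hpq)).homEquiv _ _ h =
      (pbAdj (line p q hpq)).homEquiv _ _ ((pb (line p q hpq)).map (P.π i) ≫ h) :=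
  ((pbAdj (line p q hpq)).homEquiv_naturality_left _ _).symm

theorem pb_ext {T : (CohB1.ProjSpace 1 k).Modules} {h h' : (pb (line p q hpq)).obj W ⟶ T}
    (e : ∀ i, (pb (line p q hpq)).map (P.π i) ≫ h = (pb (line p q hpq)).map (P.π i) ≫ h') : h = h' := by
  refine ((pbAdj (line p q hpq)).homEquiv _ _).injective (sub_eq_zero.1 (P.ext _ fun i => ?_))
  rw [Preadditive.comp_sub, π_transpose, π_transpose, e i, sub_self]

/-- From a homomorphism on the line to a solution. -/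
theorem exists_sol {d : ℕ} {j : ℤ} (hj : P.a₀ + (d : ℤ) = j) (h : (pb (line p q hpq)).obj W ⟶ tw 1 k j) :
    ∃ r : Fin P.b → CohB1.polyGrading 1 k d,
      (∀ i, cmp p q hpq P.a₀ ≫ mulG hj (r i) = (pb (line p q hpq)).map (P.π i) ≫ h) ∧
      (fun i => dehom (r i : S 1 k)) ∈ Descent.Sol (fun t i => (P.g t i : S n k)) p q d := by
  haveI := isIso_cmp p q hpq P.a₀
  choose r hr using fun i => exists_mulG le_rfl hj (inv (cmp p q hpq P.a₀) ≫ (pb (line p q hpq)).map (P.π i) ≫ h)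
  have hr' : ∀ i, cmp p q hpq P.a₀ ≫ mulG hj (r i) = (pb (line p q hpq)).map (P.π i) ≫ h := fun i => by
    rw [hr i, IsIso.hom_inv_id_assoc]
  refine ⟨r, hr', fun i => natDegree_dehom (r i).2, fun t => ?_⟩
  let G : Fin P.b → CohB1.polyGrading 1 k P.e := fun i =>
    ⟨lin k (mat p q) (P.g t i), (lin k (mat p q)).map_mem (P.g t i).2⟩
  have h'' : P.a₁ + ((P.e + d : ℕ) : ℤ) = j := by rw [← hj, ← P.deg]; push_cast; ring
  have h0 : ∑ i, mulG P.deg (G i) ≫ mulG hj (r i) = 0 := by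
    haveI := isIso_cmp p q hpq P.a₁
    rw [← cancel_epi (cmp p q hpq P.a₁), comp_zero, Preadditive.comp_sum]
    haveI := (pbAdj (line p q hpq)).left_adjoint_additive
    have e1 := congrArg (fun z => (pb (line p q hpq)).map z ≫ h) (P.rel t)
    simp only [Functor.map_sum, Preadditive.sum_comp, Functor.map_comp, Functor.map_zero, zero_comp,
      Category.assoc] at e1
    refine Eq.trans (Finset.sum_congr rfl fun i _ => ?_) e1
    rw [← Category.assoc, ← cmp_nat p q hpq P.deg (P.g t i), Category.assoc, hr' i]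
  rw [eval_comp_mulG P.deg hj h'' G r] at h0
  have h1 := congrArg (fun F : CohB1.polyGrading 1 k (P.e + d) => dehom (F : S 1 k)) (eq_zero_of_mulG le_rfl h'' _ h0)
  simp only [G, map_sum, map_mul, dehom_lin, ZeroMemClass.coe_zero, map_zero] at h1
  exact h1

/-- From a solution to a homomorphism on the line. -/
theorem exists_hom {d : ℕ} {j : ℤ} (hj : P.a₀ + (d : ℤ) = j) {s : Fin P.b → Polynomial k}
    (hs : s ∈ Descent.Sol (fun t i => (P.g t i : S n k)) p q d) :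
    ∃ h : (pb (line p q hpq)).obj W ⟶ tw 1 k j, ∀ i,
      (pb (line p q hpq)).map (P.π i) ≫ h = cmp p q hpq P.a₀ ≫ mulG hj (⟨homog d (s i), homog_mem d (s i)⟩ : CohB1.polyGrading 1 k d) := by
  let adj := pbAdj (line p q hpq)
  let r : Fin P.b → CohB1.polyGrading 1 k d := fun i => ⟨homog d (s i), homog_mem d (s i)⟩
  obtain ⟨h', hh'⟩ := P.desc (fun i => adj.homEquiv _ _ (cmp p q hpq P.a₀ ≫ mulG hj (r i))) fun t => by
    let G : Fin P.b → CohB1.polyGrading 1 k P.e := fun i =>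
      ⟨lin k (mat p q) (P.g t i), (lin k (mat p q)).map_mem (P.g t i).2⟩
    have h'' : P.a₁ + ((P.e + d : ℕ) : ℤ) = j := by rw [← hj, ← P.deg]; push_cast; ring
    have h0 : ∑ i, mulG P.deg (G i) ≫ mulG hj (r i) = 0 := by
      rw [eval_comp_mulG P.deg hj h'' G r]
      refine (congrArg (mulG h'') ?_).trans (mulG_zero h'')
      refine Subtype.ext (eq_zero_of_dehom (Submodule.sum_mem _ fun i _ => SetLike.mul_mem_graded (G i).2 (r i).2) ?_)
      simp only [G, r, map_sum, map_mul, dehom_lin, dehom_homog _ (hs.1 _)]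
      exact hs.2 t
    haveI := adj.left_adjoint_additive
    haveI := adj.right_adjoint_additive
    have e1 : ∀ i, mulG P.deg (P.g t i) ≫ adj.homEquiv _ _ (cmp p q hpq P.a₀ ≫ mulG hj (r i)) =
        adj.homAddEquiv _ _ (cmp p q hpq P.a₁ ≫ mulG P.deg (G i) ≫ mulG hj (r i)) := fun i => by
      refine (adj.homEquiv_naturality_left _ _).symm.trans ?_
      rw [← Category.assoc, cmp_nat p q hpq P.deg (P.g t i), Category.assoc]
      rfl
    rw [Finset.sum_congr rfl fun i _ => e1 i, ← map_sum, ← Preadditive.comp_sum, h0, comp_zero, map_zero]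
  refine ⟨(adj.homEquiv _ _).symm h', fun i => ?_⟩
  apply (adj.homEquiv _ _).injective
  rw [← π_transpose, Equiv.apply_symm_apply]
  exact hh' i

end Groth.Agent.Lib.PnLines.Restrict
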