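import Groth.Agent.Lib.PnLines.Restrict
import Groth.Agent.H34.SplitP1.Bundle
import Groth.Agent.Lib.PnStable.Main
import Groth.Agent.Lib.FundLocal.DetSES
import Groth.Agent.Lib.ExtFilt.Lambda

/-!
# Grauert–Mülich for semistable rank two bundles on `P^n`
-/

set_option autoImplicit false
set_option linter.all false
set_option maxHeartbeats 1000000
set_option backward.isDefEq.respectTransparency.types false

universe u

open CategoryTheory CategoryTheory.Limits AlgebraicGeometry MvPolynomial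

noncomputable section

namespace Groth.Agent.Lib.PnLines.Main

open Groth.Agent.Lib Groth.Agent.Lib.ProjCoh.Coherent Groth.Agent.Lib.ProjCoh.Sections
  Groth.Agent.Lib.PnLines.Dict Groth.Agent.Lib.PnLines.Line Groth.Agent.Lib.PnLines.Restrict
  Groth.Agent.Lib.EssDimM0.LinePts Groth.Agent.Lib.TensorMod.Basic

variable {k : Type u} [Field k]

theorem one_mulG_ne_zero {a b : ℤ} (h : a ≤ b) : ∃ f : tw 1 k a ⟶ tw 1 k b, f ≠ 0 := by
  obtain ⟨e, he⟩ : ∃ e : ℕ, a + (e : ℤ) = b := ⟨(b - a).toNat, by omega⟩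
  refine ⟨mulG he (⟨X 0 ^ e, isHomogeneous_X_pow 0 e⟩ : CohB1.polyGrading 1 k e), fun h0 => ?_⟩
  exact pow_ne_zero e (X_ne_zero (0 : Fin 2)) (congrArg Subtype.val (eq_zero_of_mulG le_rfl he _ h0))

theorem eq_of_iso {a b : ℤ} (i : tw 1 k a ≅ tw 1 k b) : a = b := by
  have key : ∀ {a b : ℤ}, (tw 1 k a ≅ tw 1 k b) → ¬ a < b := fun {a b} i h => by
    obtain ⟨f, hf⟩ := one_mulG_ne_zero (k := k) (le_refl a)
    refine hf ?_
    rw [← Category.comp_id f, ← i.hom_inv_id, hom_eq_zero zero_lt_one h i.inv, comp_zero, comp_zero]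
  have h1 := key i
  have h2 := key i.symm
  omega

theorem nonempty_coprod_two {C : Type*} [Category C] [Preadditive C] [HasBinaryBiproducts C] (f : Fin 2 → C)
    [HasCoproduct f] : Nonempty ((∐ f) ≅ f 1 ⊞ f 0) := by
  let fwd : (∐ f) ⟶ f 1 ⊞ f 0 := Sigma.desc fun j =>
    if h : j = 1 then eqToHom (congrArg f h) ≫ biprod.inl
    else eqToHom (congrArg f (by omega : j = 0)) ≫ biprod.inr
  let bwd : f 1 ⊞ f 0 ⟶ (∐ f) := biprod.desc (Sigma.ι f 1) (Sigma.ι f 0)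
  have h1 : Sigma.ι f 1 ≫ fwd = biprod.inl := by simp [fwd]
  have h0 : Sigma.ι f 0 ≫ fwd = biprod.inr := by simp [fwd]
  refine ⟨⟨fwd, bwd, ?_, ?_⟩⟩
  · refine Sigma.hom_ext _ _ fun j => ?_
    rw [← Category.assoc, Category.comp_id]
    obtain rfl | rfl : j = 0 ∨ j = 1 := by omega
    · rw [h0]; exact biprod.inr_desc _ _
    · rw [h1]; exact biprod.inl_desc _ _
  · refine biprod.hom_ext' _ _ ?_ ?_
    · rw [biprod.inl_desc_assoc, Category.comp_id, h1]
    · rw [biprod.inr_desc_assoc, Category.comp_id, h0]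

/-- Bundles of rank two on the line. -/
theorem exists_split {F : (CohB1.ProjSpace 1 k).Modules} (hF : FlatMod.IsFinLocFreeOfRank 2 F) :
    ∃ α β : ℤ, α ≤ β ∧ Nonempty (F ≅ tw 1 k α ⊞ tw 1 k β) := by
  obtain ⟨d, hd, ⟨i⟩⟩ := H34.SplitP1.exists_splitting hF
  obtain ⟨j⟩ := nonempty_coprod_two fun j => Twist.twistProjSpace 1 k (d j)
  exact ⟨d 1, d 0, hd (Fin.zero_le 1), ⟨i ≪≫ j⟩⟩

variable {n : ℕ}

/-- The degree of the splitting type. -/
theorem add_eq {E L : (CohB1.ProjSpace n k).Modules} (hE : FlatMod.IsFinLocFreeOfRank 2 E) {c : ℤ}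
    (hL : ExtPow.IsExtPow 2 E L) (eL : L ≅ tw n k c) (i : CohB1.ProjSpace 1 k ⟶ CohB1.ProjSpace n k)
    (hi : Nonempty ((Scheme.Modules.pullback i).obj (Twist.twistProjSpace n k 1) ≅ Twist.twistProjSpace 1 k 1))
    {α β : ℤ} (e : (Scheme.Modules.pullback i).obj E ≅ tw 1 k α ⊞ tw 1 k β) : α + β = c := by
  haveI := (Perfect.Coherent.isCoh_of_isFinLocFree (TensorMod.LocFree.of_rank hE)).1
  obtain ⟨A⟩ := Cyc.CH.nonempty_detAtlas_of_isExtPow hE hL
  obtain ⟨A'⟩ := A.nonempty_pullback i (TensorMod.LocFree.rank_pullback i hE)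
  let S : ShortComplex (CohB1.ProjSpace 1 k).Modules := ShortComplex.mk (biprod.inl ≫ e.inv) (e.hom ≫ biprod.snd)
    (by simp)
  have sp : S.Splitting :=
    { r := e.hom ≫ biprod.fst
      s := biprod.inr ≫ e.inv
      f_r := by simp [S]
      s_g := by simp [S]
      id := by
        dsimp only [S]
        rw [← e.hom_inv_id]
        simp only [Category.assoc, ← Preadditive.comp_add]
        rw [← Category.assoc biprod.fst, ← Category.assoc biprod.snd, ← Preadditive.add_comp, biprod.total,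
          Category.id_comp] }
  have hinv : ∀ a : ℤ, FlatMod.IsFinLocFreeOfRank 1 (tw 1 k a) := fun a =>
    TensorMod.LocFree.of_isInvertible (isInvertible_tw a)
  haveI := (Perfect.Coherent.isCoh_of_isFinLocFree (TensorMod.LocFree.of_rank (hinv α))).1
  haveI := (Perfect.Coherent.isCoh_of_isFinLocFree (TensorMod.LocFree.of_rank (hinv β))).1
  obtain ⟨A₁⟩ := Cyc.CH.nonempty_detAtlas_of_isExtPow (hinv α) (ExtFilt.Lambda.isExtPow_one _)
  obtain ⟨A₃⟩ := Cyc.CH.nonempty_detAtlas_of_isExtPow (hinv β) (ExtFilt.Lambda.isExtPow_one _)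
  obtain ⟨A₂⟩ := FundLocal.DetSES.nonempty_detAtlas sp.shortExact (rfl : 1 + 1 = 2) A₁ A₃
  obtain ⟨a⟩ := A'.nonempty_iso A₂
  obtain ⟨j⟩ := PnFlag.nonempty_pullback_tw i hi c
  exact (eq_of_iso (j.symm ≪≫ (Scheme.Modules.pullback i).mapIso eL.symm ≪≫ a ≪≫ twTensor α β)).symm

/-- Semistability forbids maps to small twists. -/
theorem hom_eq_zero' {E L : (CohB1.ProjSpace n k).Modules} (hE : FlatMod.IsFinLocFreeOfRank 2 E) {c k₀ : ℤ}
    (hL₀ : ExtPow.IsExtPow 2 E L) (eL : L ≅ tw n k c)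
    (hss : Subsingleton (Coh.HH (CohB1.ProjSpace n k) (CohB1.tensorMod E (tw n k (-(c + k₀ + 1)))) 0))
    {l : ℤ} (hl : l ≤ -k₀ - 1) (h : E ⟶ tw n k l) : h = 0 := by
  haveI : IsProper (CohB1.ProjSpace n k ↘ Spec (CommRingCat.of k)) := ProjSpace.Basic.isProper_toSpec n k
  haveI : IsNoetherian (CohB1.ProjSpace n k) := Curves.GlobalSections.isNoetherian_of_proper k _
  have hEf := TensorMod.LocFree.of_rank hE
  obtain ⟨m₀, hm₀⟩ := Ample.GG.eventually_genAt_twist (HProj.QuasiProj.isAmple_twist_projSpace n k) E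
    (Perfect.Coherent.isCoh_of_isFinLocFree hEf)
  obtain ⟨jp⟩ := nonempty_tensorPow_iso (n := n) (R := k) m₀
  have hgen : ∀ x, Ample.GG.GenAt (CohB1.tensorMod E (tw n k (m₀ : ℤ))) x :=
    fun x => (hm₀ m₀ le_rfl x).of_iso (tensorIso (Iso.refl E) jp.symm)
  generalize (m₀ : ℤ) = m at hgen
  have hN : PicF.IsInvertible (tw n k m) := isInvertible_tw m
  have hF : FlatMod.IsFinLocFreeOfRank 2 (CohB1.tensorMod E (tw n k m)) := by
    simpa using TensorMod.LocFree.rank_tensorMod hE (TensorMod.LocFree.of_isInvertible hN)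
  have hFc : Coh.IsCoh (CohB1.tensorMod E (tw n k m)) :=
    Perfect.Coherent.isCoh_of_isFinLocFree (TensorMod.LocFree.of_rank hF)
  obtain ⟨N, p, hp⟩ := ProjCoh.Gen.exists_epi_freeMod hFc hgen
  haveI : (CohB1.tensorMod E (tw n k m)).IsQuasicoherent := hFc.1
  haveI : E.IsQuasicoherent := (Perfect.Coherent.isCoh_of_isFinLocFree hEf).1
  obtain ⟨LF, hLF⟩ := FundLocal.ExtPowExists.exists_isExtPow (CohB1.tensorMod E (tw n k m)) 2
  have hLF' := hLF
  obtain ⟨φM, hφM⟩ := hLF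
  obtain ⟨φN, hφN⟩ := hL₀
  obtain ⟨i⟩ := Modules.ExtPowTwist.nonempty_iso φM hφM φN hφN hN
  obtain ⟨j⟩ := Bott.Euler.nonempty_tensorPow_tw n k m 2
  let eLF : LF ≅ tw n k (c + 2 * m) :=
    i ≪≫ tensorIso eL j ≪≫ twTensor _ _ ≪≫ eqToIso (by push_cast; rfl)
  by_contra h0
  let P : CohB1.tensorMod E (tw n k m) ⟶ tw n k (l + m) := tmap h (𝟙 _) ≫ (twTensor l m).hom
  have hP : P ≠ 0 := fun hP0 => h0 (PnOmega.eq_zero_of_tmap hN h
    (((twTensor l m).cancel_iso_hom_right _ _).1 (hP0.trans zero_comp.symm)))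
  obtain ⟨w, hw⟩ := PnStable.Dual.exists_dual hF hLF' (isInvertible_tw (l + m)) p P hP
  let e2 : CohB1.tensorMod (CohB1.tensorMod E (tw n k m)) (tw n k (l + m)) ≅ CohB1.tensorMod E (tw n k (m + (l + m))) :=
    assoc _ _ _ ≪≫ tensorIso (Iso.refl E) (twTensor _ _)
  have h1 := PnStable.Main.hom_eq_zero hEf (k₀ := -(c + k₀ + 1)) (m := m + (l + m)) (a := c + 2 * m) hss (by omega)
    (eLF.inv ≫ w ≫ e2.hom)
  exact hw ((e2.cancel_iso_hom_right _ _).1 (((eLF.cancel_iso_inv_left _ _).1 (h1.trans comp_zero.symm)).trans zero_comp.symm))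

/-- A nonzero homomorphism onto the smaller twist. -/
theorem exists_hom_ne_zero {F : (CohB1.ProjSpace 1 k).Modules} {α β a₀ : ℤ} (e : F ≅ tw 1 k α ⊞ tw 1 k β)
    (h : α ≤ a₀) : ∃ f : F ⟶ tw 1 k a₀, f ≠ 0 := by
  obtain ⟨f, hf⟩ := one_mulG_ne_zero (k := k) h
  refine ⟨e.hom ≫ biprod.fst ≫ f, fun h0 => hf ?_⟩
  have h1 := congrArg (fun z => biprod.inl ≫ e.inv ≫ z) h0
  simpa using h1


end Groth.Agent.Lib.PnLines.Main
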