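import Groth.Agent.Lib.PnFlag.Step
import Groth.Agent.Lib.PnFlag.Cohom
import Groth.Agent.Lib.ProjCoh.Horrocks
import Groth.Agent.Lib.PnLines.Line
import Mathlib.AlgebraicGeometry.AlgClosed.Basic
import Mathlib.LinearAlgebra.Eigenspace.Triangularizable

/-!
# Bundles trivial on the lines through a point
-/

set_option autoImplicit false
set_option linter.all false
set_option maxHeartbeats 1000000
set_option backward.isDefEq.respectTransparency.types false

universe u

open CategoryTheory CategoryTheory.Limits AlgebraicGeometry TopologicalSpace Opposite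
open ZarCoh.FlatBC.PullbackSections

noncomputable section

namespace Groth.Agent.Lib.PnLines.Through

open Groth.Agent.Lib TensorMod.Basic TensorMod.Pullback ProjCoh.Coherent PnOmega Modules.Free PnFlag

/-- The cokernel of a section of an invertible module is its restriction to the zero scheme. -/
theorem nonempty_coker_iso {X : Scheme.{u}} [IsIntegral X] {L : X.Modules} (hL : PicF.IsInvertible L)
    (s : Coh.structureModule X ⟶ L) (hs : s ≠ 0) :
    Nonempty (cokernel s ≅ CohB1.tensorMod L (_root_.ClSub.quotMod (PicF2.zeroScheme L s))) := by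
  let D := PicF2.zeroScheme L s
  have hstalk := SurfInt.Div.exists_stalk_zeroScheme hL s hs
  have w1 : s ≫ cokernel.π (SurfInt.Div.gMap D L) = 0 := by
    refine Modules.StalkModule.hom_ext_stalkMapₗ fun x => LinearMap.ext fun z => ?_
    obtain ⟨e, c, he, -, -, hD, hone⟩ := hstalk x
    obtain ⟨r, hr⟩ := (SurfInt.Div.range_stalk_section L s x _).mp ⟨z, rfl⟩
    obtain ⟨w, hw⟩ := (SurfInt.Div.mem_range_gMap_iff D x he (Modules.StalkModule.stalkMapₗ s x z)).mpr
      ⟨r * c, hD ▸ _root_.Ideal.mul_mem_left _ r (_root_.Ideal.mem_span_singleton_self c),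
        by rw [mul_smul, ← hone, hr]⟩
    rw [Modules.StalkModule.stalkMapₗ_comp, LinearMap.comp_apply, ← hw, ← LinearMap.comp_apply,
      ← Modules.StalkModule.stalkMapₗ_comp, cokernel.condition, Modules.StalkModule.stalkMapₗ_zero,
      Modules.StalkModule.stalkMapₗ_zero]
    rfl
  have w2 : SurfInt.Div.gMap D L ≫ cokernel.π s = 0 := by
    refine Modules.StalkModule.hom_ext_stalkMapₗ fun x => LinearMap.ext fun z => ?_
    obtain ⟨e, c, he, -, -, hD, hone⟩ := hstalk x
    obtain ⟨r, hr, hre⟩ := (SurfInt.Div.mem_range_gMap_iff D x he _).mp ⟨z, rfl⟩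
    rw [hD, _root_.Ideal.mem_span_singleton'] at hr
    obtain ⟨t, rfl⟩ := hr
    obtain ⟨w, hw⟩ := (SurfInt.Div.range_stalk_section L s x
      (Modules.StalkModule.stalkMapₗ (SurfInt.Div.gMap D L) x z)).mpr ⟨t, by rw [hone, ← mul_smul, hre]⟩
    rw [Modules.StalkModule.stalkMapₗ_comp, LinearMap.comp_apply, ← hw, ← LinearMap.comp_apply,
      ← Modules.StalkModule.stalkMapₗ_comp, cokernel.condition, Modules.StalkModule.stalkMapₗ_zero,
      Modules.StalkModule.stalkMapₗ_zero]
    rfl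
  let e1 : cokernel s ≅ cokernel (SurfInt.Div.gMap D L) :=
    { hom := cokernel.desc s (cokernel.π _) w1
      inv := cokernel.desc _ (cokernel.π s) w2
      hom_inv_id := coequalizer.hom_ext (by simp)
      inv_hom_id := coequalizer.hom_ext (by simp) }
  have hS := CurveBundle.Twist.shortExact hL (ClSub.Quot.idealSeq_shortExact D)
  let e2 : cokernel (SurfInt.Div.gMap D L) ≅ cokernel (tmap (_root_.ClSub.idealModι D) (𝟙 L)) :=
    cokernel.mapIso _ _ (comm _ _) (leftUnit L).symm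
      (by simp [SurfInt.Div.gMap, SurfInt.Stalk.act])
  exact ⟨e1 ≪≫ e2 ≪≫ (cokernelIsCokernel _).coconePointUniqueUpToIso hS.gIsCokernel ≪≫ comm _ _⟩

variable {k : Type u} [Field k]

/-- Vanishing for twisted free modules on the line. -/
theorem free_vanish {r : ℕ} {F : (CohB1.ProjSpace 1 k).Modules}
    (e : F ≅ FlatMod.freeMod (CohB1.ProjSpace 1 k) r) {q : ℕ} {d : ℤ} (h : (q = 0 ∧ d < 0) ∨ (q = 1 ∧ -1 ≤ d)) :
    Subsingleton (Coh.HH (CohB1.ProjSpace 1 k) (CohB1.tensorMod F (tw 1 k d)) q) :=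
  ProjCoh.Horrocks.subsingleton_sum (fun _ : Fin r => (0 : ℤ))
    (e ≪≫ Sigma.mapIso fun _ => twZero.symm) d q fun _ => by
    rcases h with ⟨rfl, hd⟩ | ⟨rfl, hd⟩
    · exact ProjCoh.SerreDual.subsingleton_HH_zero_neg Nat.one_pos (by omega)
    · exact ProjKoszul.Reg2.subsingleton_tw (n := 1) (Or.inl (by simpa using hd)) le_rfl

theorem mapK_smul_id {n : ℕ} (M : (CohB1.ProjSpace n k).Modules) (r : k) (q : ℕ) :
    Curves.LES.mapK k (r • 𝟙 M) q = r • LinearMap.id := by
  refine LinearMap.ext fun z => ?_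
  rw [KLin.smul_id]
  rfl

theorem mapK_add' {n : ℕ} {M N : (CohB1.ProjSpace n k).Modules} (f g : M ⟶ N) (q : ℕ) :
    Curves.LES.mapK k (f + g) q = Curves.LES.mapK k f q + Curves.LES.mapK k g q :=
  LinearMap.ext fun z => (congrArg (fun h => Sheaf.H.map h q z) ((Curves.LES.F _).map_add)).trans
    (Sheaf.H.map_add_apply _ _ z)

theorem tmap_smul {n : ℕ} (M : (CohB1.ProjSpace n k).Modules) {A B : (CohB1.ProjSpace n k).Modules} (r : k)
    (φ : A ⟶ B) : tmap (𝟙 M) (r • φ) = tmap (𝟙 M) φ ≫ (r • 𝟙 _) := by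
  have e1 : r • φ = φ ≫ (r • 𝟙 B) := by rw [Linear.comp_smul, Category.comp_id]
  have e2 : tmap (𝟙 M) (φ ≫ (r • 𝟙 B)) = tmap (𝟙 M) φ ≫ tmap (𝟙 M) (r • 𝟙 B) := by
    rw [← tmap_comp, Category.id_comp]
  rw [e1, e2, ExtHH.SheafHom.tensor_map_smul]

section plane

variable {E : (CohB1.ProjSpace 2 k).Modules} {r : ℕ} (hE : FlatMod.IsFinLocFree E)

include hE in
/-- The multiplication by a section cutting out a line with trivial restriction is bijective. -/
theorem bijective_mul (s : Coh.structureModule (CohB1.ProjSpace 2 k) ⟶ Twist.twistProjSpace 2 k 1) (hs : s ≠ 0)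
    (h : CohB1.ProjSpace 1 k ⟶ CohB1.ProjSpace 2 k) [IsClosedImmersion h]
    (he : Nonempty ((Scheme.Modules.pullback h).obj (Twist.twistProjSpace 2 k 1) ≅ Twist.twistProjSpace 1 k 1))
    (hq : Nonempty (_root_.ClSub.quotMod (PicF2.zeroScheme _ s) ≅
      (Scheme.Modules.pushforward h).obj (Coh.structureModule (CohB1.ProjSpace 1 k))))
    (hT : Nonempty ((Scheme.Modules.pullback h).obj E ≅ FlatMod.freeMod (CohB1.ProjSpace 1 k) r)) :
    Function.Bijective (Curves.LES.mapK k (tmap (𝟙 (CohB1.tensorMod E (tw 2 k (-2)))) s) 1) := by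
  haveI : IsIntegral (CohB1.ProjSpace 2 k) := ProjSpace.Basic.isIntegral_projSpace 2 k
  obtain ⟨eq⟩ := hq
  obtain ⟨eT⟩ := hT
  let M := CohB1.tensorMod E (tw 2 k (-2))
  have hM : FlatMod.IsFinLocFree M := isFinLocFree_twist hE (-2)
  have hD : Modules.DualBasis.HasDBases M := Modules.DualBasis.hasDBases_of_isFinLocFree hM
  haveI := Modules.DualAdj.tensorL_preservesHomology hD
  haveI := (Modules.DualAdj.tensorL M).preservesFiniteLimits_of_preservesHomology
  haveI := (Modules.DualAdj.tensorL M).preservesFiniteColimits_of_preservesHomology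
  have hL : PicF.IsInvertible (Twist.twistProjSpace 2 k 1) := isInvertible_tw (n := 2) (R := k) 1
  obtain ⟨eI⟩ := nonempty_coker_iso hL s hs
  haveI : Mono s := by
    rw [Modules.StalkModule.mono_iff_stalkMapₗ_injective]
    intro x
    obtain ⟨e, c, -, hfree, hc, -, hone⟩ := SurfInt.Div.exists_stalk_zeroScheme hL s hs x
    rw [injective_iff_map_eq_zero]
    intro z hz
    have h : SurfInt.Stalk.oStalk x z * c = 0 := hfree _ (by
      rw [mul_smul, ← hone, SurfInt.Div.germOne, ← map_smul, ← map_smul, smul_eq_mul, mul_one,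
        LinearEquiv.symm_apply_apply, hz])
    exact (LinearEquiv.map_eq_zero_iff _).mp ((mul_eq_zero.mp h).resolve_right hc)
  let S : ShortComplex (CohB1.ProjSpace 2 k).Modules := ShortComplex.mk s (cokernel.π s) (cokernel.condition s)
  have hS : S.ShortExact :=
    { exact := ShortComplex.exact_cokernel s, mono_f := inferInstanceAs (Mono s), epi_g := inferInstanceAs (Epi (cokernel.π s)) }
  have hS' := hS.map_of_exact (Modules.DualAdj.tensorL M)
  let N := CohB1.tensorMod E (tw 2 k (-1))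
  have hN : FlatMod.IsFinLocFree N := isFinLocFree_twist hE (-1)
  obtain ⟨a⟩ := nonempty_pullback_twist h he E (-1)
  let j₃ : CohB1.tensorMod M (cokernel s) ≅
      (Coh.push h).obj (CohB1.tensorMod ((Scheme.Modules.pullback h).obj E) (tw 1 k (-1))) :=
    tensorIso (Iso.refl M) (eI ≪≫ tensorIso (Iso.refl _) eq) ≪≫ (assoc _ _ _).symm ≪≫
      tensorIso (assoc _ _ _ ≪≫ tensorIso (Iso.refl E) (twTensor (-2) 1 ≪≫ eqToIso (congrArg (tw 2 k) (by norm_num))))
        (Iso.refl _) ≪≫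
      (Modules.ProjFormula.projIso h (Modules.DualBasis.hasDBases_of_isFinLocFree hN)).app
        (Coh.structureModule (CohB1.ProjSpace 1 k)) ≪≫
      (Scheme.Modules.pushforward h).mapIso (rightUnit _ ≪≫ a)
  haveI : (CohB1.tensorMod ((Scheme.Modules.pullback h).obj E) (tw 1 k (-1))).IsQuasicoherent :=
    (Perfect.Coherent.isCoh_of_isFinLocFree (isFinLocFree_twist (TensorMod.LocFree.isFinLocFree_pullback h hE) (-1))).1
  have h3 : ∀ q ≤ 1, Subsingleton (Coh.HH (CohB1.ProjSpace 2 k) (CohB1.tensorMod M (cokernel s)) q) := fun q hq =>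
    @Equiv.subsingleton _ _ ((Curves.LES.isoK k j₃ q).toEquiv.trans (ZarCoh.Morph.affineEquiv h _ q).toEquiv)
      (free_vanish eT (by omega))
  refine ⟨(injective_iff_map_eq_zero _).2 fun x hx => ?_, fun x => ?_⟩
  · obtain ⟨y, hy⟩ := (Curves.LES.exactK₁ k hS' 0 1 rfl x).1 hx
    exact hy.symm.trans ((congrArg _ (@Subsingleton.elim _ (h3 0 (by omega)) y 0)).trans (map_zero _))
  · exact (Curves.LES.exactK₂ k hS' 1 x).1 (@Subsingleton.elim _ (h3 1 le_rfl) _ _)

/-- A section vanishing at a point cuts out a line through it. -/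
theorem exists_line_of_section (i : CohB1.ProjSpace 0 k ⟶ CohB1.ProjSpace 2 k) [IsClosedImmersion i]
    (s : Coh.structureModule (CohB1.ProjSpace 2 k) ⟶ Twist.twistProjSpace 2 k 1) (hs : s ≠ 0)
    (hvan : ProjUP.pullSec i (Twist.twistProjSpace 2 k 1) (s.app ⊤ (1 : Γ(CohB1.ProjSpace 2 k, ⊤))) = 0) :
    ∃ (h : CohB1.ProjSpace 1 k ⟶ CohB1.ProjSpace 2 k), IsClosedImmersion h ∧
      h ≫ CohB1.ProjSpace.toSpec 2 k = CohB1.ProjSpace.toSpec 1 k ∧
      Nonempty ((Scheme.Modules.pullback h).obj (Twist.twistProjSpace 2 k 1) ≅ Twist.twistProjSpace 1 k 1) ∧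
      Nonempty (_root_.ClSub.quotMod (PicF2.zeroScheme _ s) ≅
        (Scheme.Modules.pushforward h).obj (Coh.structureModule (CohB1.ProjSpace 1 k))) ∧
      Set.range i ⊆ Set.range h := by
  haveI : IsIntegral (CohB1.ProjSpace 2 k) := ProjSpace.Basic.isIntegral_projSpace 2 k
  have hL : PicF.IsInvertible (Twist.twistProjSpace 2 k 1) := isInvertible_tw (n := 2) (R := k) 1
  obtain ⟨φ, hφ, ⟨εh⟩⟩ := PnFlag.Hyper.exists_iso (n := 1) k s hs
  let D := PicF2.zeroScheme (Twist.twistProjSpace 2 k 1) s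
  have hle : D ≤ i.ker := by
    choose F hxF hFU using fun x : CohB1.ProjSpace 2 k =>
      H95.ZeroSch.exists_frame hL (show x ∈ (⊤ : (CohB1.ProjSpace 2 k).Opens) from trivial)
    refine Scheme.IdealSheafData.le_of_iSup_eq_top (fun x => (F x).V)
      (eq_top_iff.2 fun x _ => Opens.mem_iSup.2 ⟨x, hxF x⟩) fun x => ?_
    rw [H26.ZeroFrame.zeroScheme_ideal_eq hL s (F x), Ideal.span_singleton_le_iff_mem, Scheme.Hom.ker_apply,
      RingHom.mem_ker]
    have h1 : TensorMod.Pullback.unitSec i _ (H95.ZeroSch.sv s (F x).V.1) = 0 := by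
      rw [← H95.ZeroSch.rs_sv s (le_top : (F x).V.1 ≤ ⊤)]
      refine (ProjMor.Sec.gl_pullSec i (H95.ZeroSch.sv s ⊤) (F x).V.1).symm.trans ?_
      rw [show ProjUP.pullSec i (Twist.twistProjSpace 2 k 1) (H95.ZeroSch.sv s ⊤) = 0 from hvan]
      exact map_zero (((Scheme.Modules.pullback i).obj (Twist.twistProjSpace 2 k 1)).presheaf.map _).hom
    rw [← H95.ZeroSch.coord_smul (F x) (H95.ZeroSch.sv s (F x).V.1), Ample.GenLocus.unitSec_smul] at h1
    refine ((Ample.GenLocus.isGen_unitSec i (F x).he) _ le_rfl).1 ?_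
    simpa only [TensorMod.Dual.rs_self, zero_smul] using h1
  let j : CohB1.ProjSpace 0 k ⟶ D.subscheme := IsClosedImmersion.lift D.subschemeι i (by simpa using hle)
  have hj : j ≫ D.subschemeι = i := IsClosedImmersion.lift_fac _ _ _
  let h : CohB1.ProjSpace 1 k ⟶ CohB1.ProjSpace 2 k := φ.hom ≫ D.subschemeι
  have hh : IsClosedImmersion h := inferInstanceAs (IsClosedImmersion (φ.hom ≫ D.subschemeι))
  have hker : h.ker = D := (Scheme.Hom.ker_comp_of_isIso φ.hom D.subschemeι).trans D.ker_subschemeι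
  obtain ⟨eQ⟩ := ArtinFun.QuotModIso.nonempty_iso_quotMod h
  refine ⟨h, hh, (Category.assoc _ _ _).trans hφ, ⟨εh⟩,
    ⟨eqToIso (congrArg _root_.ClSub.quotMod hker.symm) ≪≫ eQ.symm⟩, ?_⟩
  rintro _ ⟨y, rfl⟩
  refine ⟨(j ≫ φ.inv) y, ?_⟩
  have : (j ≫ φ.inv) ≫ h = i := by simp [h, hj]
  rw [← this]
  rfl

/-- Two independent sections vanishing at a point. -/
theorem exists_pencil (i : CohB1.ProjSpace 0 k ⟶ CohB1.ProjSpace 2 k)
    (hi : i ≫ CohB1.ProjSpace.toSpec 2 k = CohB1.ProjSpace.toSpec 0 k)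
    (e : (Scheme.Modules.pullback i).obj (Twist.twistProjSpace 2 k 1) ≅ Twist.twistProjSpace 0 k 1) :
    ∃ s₀ s₁ : Coh.structureModule (CohB1.ProjSpace 2 k) ⟶ Twist.twistProjSpace 2 k 1,
      ∀ a b : k, a ≠ 0 ∨ b ≠ 0 → a • s₀ + b • s₁ ≠ 0 ∧
        ProjUP.pullSec i (Twist.twistProjSpace 2 k 1) ((a • s₀ + b • s₁).app ⊤ (1 : Γ(CohB1.ProjSpace 2 k, ⊤))) = 0 := by
  classical
  obtain ⟨v, -, hv, -⟩ := exists_euler 2 k
  let w : Fin 3 → Γ(Twist.twistProjSpace 0 k 1, ⊤) := fun a =>
    e.hom.app ⊤ (ProjUP.pullSec i (Twist.twistProjSpace 2 k 1) (v a))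
  let L := Fintype.linearCombination k fun a => unitHom (Twist.twistProjSpace 0 k 1) (w a)
  let V := Fintype.linearCombination k fun a => unitHom (Twist.twistProjSpace 2 k 1) (v a)
  have hV : ∀ c, V c = 0 → c = 0 := fun c h0 => hv c (by
    have h1 : ∑ a, c a • unitHom (Twist.twistProjSpace 2 k 1) (v a) = 0 :=
      (Fintype.linearCombination_apply k _ _).symm.trans h0
    rw [← sum_unitHom_app', h1]
    rfl)
  have hrank : 2 ≤ Module.finrank k (LinearMap.ker L) := by
    haveI : Module.Finite k (Coh.structureModule (CohB1.ProjSpace 0 k) ⟶ Twist.twistProjSpace 0 k 1) :=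
      Module.finite_of_finrank_pos (by rw [finrank_hom]; omega)
    have h1 := LinearMap.finrank_range_add_finrank_ker L
    have h2 := Submodule.finrank_le (LinearMap.range L)
    rw [finrank_hom] at h2
    rw [Module.finrank_fin_fun] at h1
    omega
  obtain ⟨f, hf⟩ := exists_linearIndependent_of_le_finrank hrank
  have key : ∀ c, L c = 0 →
      ProjUP.pullSec i (Twist.twistProjSpace 2 k 1) ((V c).app ⊤ (1 : Γ(CohB1.ProjSpace 2 k, ⊤))) = 0 := fun c hc => by
    rw [show V c = ∑ a, c a • unitHom (Twist.twistProjSpace 2 k 1) (v a) from Fintype.linearCombination_apply k _ _,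
      sum_unitHom_app']
    have hw : ∑ a, cst 0 k (c a) • w a = 0 := by
      rw [← sum_unitHom_app', show ∑ a, c a • unitHom (Twist.twistProjSpace 0 k 1) (w a) = L c from
        (Fintype.linearCombination_apply k _ _).symm, hc]
      rfl
    refine (ConcreteCategory.bijective_of_isIso (e.hom.app ⊤)).1 ?_
    refine Eq.trans ?_ (hw.trans (map_zero (e.hom.app ⊤).hom).symm)
    let g : Γ(Twist.twistProjSpace 2 k 1, ⊤) →+ Γ(Twist.twistProjSpace 0 k 1, ⊤) :=
      (e.hom.app ⊤).hom.comp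
        (((Scheme.Modules.pullbackPushforwardAdjunction i).unit.app (Twist.twistProjSpace 2 k 1)).app ⊤).hom
    refine (map_sum g _ _).trans (Finset.sum_congr rfl fun a _ => ?_)
    change e.hom.app ⊤ (ProjUP.pullSec i _ (cst 2 k (c a) • v a)) = _
    rw [pullSec_smul, appTop_cst i hi]
    exact Scheme.Modules.Hom.app_smul e.hom _ _
  refine ⟨V (f 0), V (f 1), fun a b hab => ?_⟩
  rw [← map_smul, ← map_smul, ← map_add]
  refine ⟨fun h0 => ?_, key _ ?_⟩
  · have h2 : a • f 0 + b • f 1 = 0 := Subtype.ext (hV _ h0)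
    have h3 := Fintype.linearIndependent_iff.1 hf ![a, b] (by simpa [Fin.sum_univ_two] using h2)
    exact hab.elim (fun h => h (h3 0)) (fun h => h (h3 1))
  · rw [map_add, map_smul, map_smul, LinearMap.mem_ker.1 (f 0).2, LinearMap.mem_ker.1 (f 1).2, smul_zero, smul_zero,
      add_zero]

variable [IsAlgClosed k]

include hE in
/-- The middle cohomology of the second negative twist vanishes. -/
theorem subsingleton_h1_neg_two (x : ↥(CohB1.ProjSpace 2 k)) (i : CohB1.ProjSpace 0 k ⟶ CohB1.ProjSpace 2 k)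
    [IsClosedImmersion i] (hi : i ≫ CohB1.ProjSpace.toSpec 2 k = CohB1.ProjSpace.toSpec 0 k)
    (e : (Scheme.Modules.pullback i).obj (Twist.twistProjSpace 2 k 1) ≅ Twist.twistProjSpace 0 k 1)
    (hx : x ∈ Set.range i)
    (h : ∀ (j : CohB1.ProjSpace 1 k ⟶ CohB1.ProjSpace 2 k) [IsClosedImmersion j],
      j ≫ CohB1.ProjSpace.toSpec 2 k = CohB1.ProjSpace.toSpec 1 k →
      Nonempty ((Scheme.Modules.pullback j).obj (Twist.twistProjSpace 2 k 1) ≅ Twist.twistProjSpace 1 k 1) →
      x ∈ Set.range j.base →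
      Nonempty ((Scheme.Modules.pullback j).obj E ≅ FlatMod.freeMod (CohB1.ProjSpace 1 k) r)) :
    Subsingleton (Coh.HH (CohB1.ProjSpace 2 k) (CohB1.tensorMod E (tw 2 k (-2))) 1) := by
  obtain ⟨s₀, s₁, hs⟩ := exists_pencil i hi e
  let M := CohB1.tensorMod E (tw 2 k (-2))
  let A := CohB1.tensorMod M (Coh.structureModule (CohB1.ProjSpace 2 k))
  have hbij : ∀ a b : k, a ≠ 0 ∨ b ≠ 0 →
      Function.Bijective (Curves.LES.mapK k (tmap (𝟙 M) (a • s₀ + b • s₁)) 1) := fun a b hab => by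
    obtain ⟨hne, hvan⟩ := hs a b hab
    obtain ⟨l, hl, hls, hl1, hlq, hsub⟩ := exists_line_of_section i _ hne hvan
    exact bijective_mul hE _ hne l hl1 hlq (h l hls hl1 (hsub hx))
  refine ProjKoszul.Chase.subsingleton_of_iso k (rightUnit M) ?_
  by_contra hns
  haveI : Nontrivial (Coh.HH (CohB1.ProjSpace 2 k) A 1) := not_subsingleton_iff_nontrivial.1 hns
  haveI : Module.Finite k (Coh.HH (CohB1.ProjSpace 2 k) A 1) := ProjCoh.Coherent.finite_HH A
    (CohBasics.Closure.isCoh_of_iso (rightUnit M).symm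
      (Perfect.Coherent.isCoh_of_isFinLocFree (isFinLocFree_twist hE (-2)))) 1
  have h0 := hbij 1 0 (Or.inl one_ne_zero)
  rw [one_smul, zero_smul, add_zero] at h0
  let T := LinearEquiv.ofBijective _ h0
  let g : Module.End k (Coh.HH (CohB1.ProjSpace 2 k) A 1) :=
    T.symm.toLinearMap.comp (Curves.LES.mapK k (tmap (𝟙 M) s₁) 1)
  obtain ⟨lam, hlam⟩ := Module.End.exists_eigenvalue g
  obtain ⟨z, hz⟩ := hlam.exists_hasEigenvector
  have h1 := (hbij (-lam) 1 (Or.inr one_ne_zero)).1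
  refine hz.2 (h1 (Eq.trans ?_ (map_zero _).symm))
  have h2 : Curves.LES.mapK k (tmap (𝟙 M) s₁) 1 z = lam • Curves.LES.mapK k (tmap (𝟙 M) s₀) 1 z := by
    have h3 := congrArg T (show T.symm (Curves.LES.mapK k (tmap (𝟙 M) s₁) 1 z) = lam • z from
      Module.End.mem_eigenspace_iff.1 hz.1)
    rw [LinearEquiv.apply_symm_apply, map_smul] at h3
    exact h3
  rw [one_smul, ProjCoh.Horrocks.tmap_add, tmap_smul, mapK_add', LinearMap.add_apply, Curves.LES.mapK_comp,
    LinearMap.comp_apply, mapK_smul_id, LinearMap.smul_apply, LinearMap.id_apply, h2, ← add_smul, neg_add_cancel,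
    zero_smul]

end plane

end Groth.Agent.Lib.PnLines.Through
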